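import Cfsg.Agent.H201.O8.Fin_m3
import Cfsg.Agent.S0189
import Cfsg.Agent.CharDeep.DegreeBound
import Cfsg.Agent.Blocks.Knorr
import Cfsg.Agent.H856.F23.Deg_m3
import Cfsg.Agent.SporadicA.M11CharSimple
import Cfsg.Agent.H133.QS.ResFi_m3
import Cfsg.Agent.H161.Rec.Fi24Facts
import Cfsg.Agent.Lib.PermNetFast
import Cfsg.Agent.Lib.ListFast
import Cfsg.Agent.H842.WFive_mg_m3
import Cfsg.Agent.H48.OreFi.WFour
import Cfsg.Agent.FastGrp
import Cfsg.Agent.Prune
set_option linter.all false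

section
prune_inst 0x7ff0fff9cdbcbfffffff7e3ffff9dfffd3edcfffefdffbcbffe9ebbfef1f33e7bbc5fba71de458ffced6e2b430b87853fb7eeeffed6fdc7ffffd57b41ffbee5ff7ff378931dc9cbe1eec6fff9bf17f6e6f3ffdffffffffffffffffffffffffffffffebfeffff

-- part: H610/TF/DegL
section
prune_inst 0x30000100000000000000000000000000000000000000000000000102000000000000080008000102000000000000000000000000000000000a000000000000000000000000000000000000000000000000000000000000000000000000000000000000000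
set_option linter.all false
open scoped Cfsg.Agent.FastGrp

namespace Cfsg.Agent.H90F

private noncomputable def fan {α : Type} (l : List α) (p : α → Bool) : Bool :=
  List.rec false (fun a _ ih => Bool.rec ih true (p a)) l

private theorem an_fun : @List.any.{0} = @fan := by
  funext α l p
  induction l with
  | nil => rfl
  | cons a l ih => rw [List.any_cons, ih]; show _ = (Bool.rec (fan l p) true (p a) : Bool); cases p a <;> rfl

private noncomputable def frc {α : Type} (x : ℕ) (f : ℕ → α) : α := Nat.rec (f 0) (fun k _ => f (Nat.succ k)) x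

private theorem frc_eq {α : Type} (x : ℕ) (f : ℕ → α) : frc x f = f x := by cases x <;> rfl

private noncomputable def fen (a : ℕ) (l : List ℕ) : Bool :=
  frc a fun a => List.rec false (fun b _ ih => Bool.rec ih true (Nat.beq a b)) l

private theorem bn_eq (a b : ℕ) : (a == b) = Nat.beq a b := by
  rw [Bool.eq_iff_iff, beq_iff_eq, Nat.beq_eq]

private theorem fen_eq (a : ℕ) (l : List ℕ) : List.elem a l = fen a l := by
  rw [fen, frc_eq]
  induction l with
  | nil => rfl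
  | cons b l ih => rw [List.elem_cons, ih, bn_eq]; show _ = (Bool.rec _ true (Nat.beq a b) : Bool); cases Nat.beq a b <;> rfl

private theorem en_fun : @List.elem ℕ instBEqOfDecidableEq = fen := by
  funext a l; exact fen_eq a l

end Cfsg.Agent.H90F

-- part: H610/TF/Nine
section
/-!
# `3.Fi24'`: nine divides the degrees of the faithful characters (helper610, for S2491, S2492)

* `cube_one`, `commute_comm` : orders and commutation of lifts in a triple cover;
* `nine_dvd_of` : two commuting elements of order 3 generating a fused group;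
* `nine` : an elementary abelian group of order 9 of `A9` acting regularly on 9 letters; all its elements are conjugate
  to `l k b c e f`, which is fused.
-/

set_option autoImplicit false
set_option maxRecDepth 100000
set_option Elab.async false

namespace Cfsg.Agent.H610.TF

open Cfsg Subgroup Cfsg.Agent.H51.Mult Cfsg.Agent.H777.Ore Cfsg.Agent.H265.TF Cfsg.Agent.Characters Cfsg.Agent.Characters.Core
open Cfsg.Spor.Fi24 (Gen)
open Cfsg.Agent.H52.ThreeFi24 Cfsg.Agent.H52.ThreeFi24Chk Cfsg.Agent.R08.TThree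
open Cfsg.Agent.Fischer.Fi24Rep (gen word)
open Cfsg.Agent.Fischer.Fi24Spider (word_append word_cons word_nil)
open Cfsg.Agent.H827.CocoD (word_mem word_reverse)
open Cfsg.Agent.LThreeFi24.FiveConj (eqB eq_of_eqB)

universe u v

section Gen

variable {L : Type u} {K : Type v} [Group L] [Group K] {p : L →* K}

/-- the lifts of an inverted element of order 3 have order 3 -/
theorem cube_one (hs : Function.Surjective p) (hc : p.ker ≤ center L) (hk : Nat.card p.ker = 3) {x g : K}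
    (hx : x ^ 3 = 1) (hg : g * x * g⁻¹ = x⁻¹) {X : L} (hX : p X = x) : X ^ 3 = 1 := by
  have key : ∀ z ∈ p.ker, z ^ 3 = 1 := by
    intro z hz
    have h2 : (⟨z, hz⟩ : p.ker) ^ 3 = 1 := by rw [← hk, pow_card_eq_one']
    exact congrArg Subtype.val h2
  obtain ⟨G, rfl⟩ := hs g
  subst hX
  have h1 : X ^ 3 ∈ p.ker := by rw [MonoidHom.mem_ker, map_pow, hx]
  have hz : G * X * G⁻¹ * X ∈ p.ker := by
    rw [MonoidHom.mem_ker]
    simp only [map_mul, map_inv]
    rw [hg, inv_mul_cancel]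
  set z := G * X * G⁻¹ * X with hzd
  have hzc := fun y => mem_center_iff.1 (hc hz) y
  have e1 : G * X * G⁻¹ = z * X⁻¹ := by rw [hzd]; group
  have hcz : Commute z X⁻¹ := (hzc X⁻¹).symm
  have e2 : G * X ^ 3 * G⁻¹ = (X ^ 3)⁻¹ := by
    calc G * X ^ 3 * G⁻¹ = (G * X * G⁻¹) ^ 3 := by rw [conj_pow]
      _ = z ^ 3 * X⁻¹ ^ 3 := by rw [e1, hcz.mul_pow]
      _ = (X ^ 3)⁻¹ := by rw [key z hz, one_mul, inv_pow]
  have e3 : G * X ^ 3 * G⁻¹ = X ^ 3 := by
    rw [mem_center_iff.1 (hc h1) G, mul_assoc, mul_inv_cancel, mul_one]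
  have h4 : X ^ 3 * X ^ 3 = 1 := by
    nth_rewrite 1 [← e3]
    rw [e2, inv_mul_cancel]
  have h5 := key _ h1
  rw [pow_succ, pow_two, h4, one_mul] at h5
  exact h5

/-- a commutator of elements of the centralizer commutes with all lifts -/
theorem commute_comm (hc : p.ker ≤ center L) {A B X : L} (h1 : Commute (p A) (p X)) (h2 : Commute (p B) (p X)) :
    Commute (A * B * A⁻¹ * B⁻¹) X := by
  have a1 := comm_ker h1
  have a2 := comm_ker h2
  set z := A * X * A⁻¹ * X⁻¹ with hz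
  set w := B * X * B⁻¹ * X⁻¹ with hw
  have hzc := fun y => mem_center_iff.1 (hc a1) y
  have hwc := fun y => mem_center_iff.1 (hc a2) y
  have e1 : A * X = z * X * A := by rw [hz]; group
  have e2 : B * X = w * X * B := by rw [hw]; group
  have e1' : A⁻¹ * X = z⁻¹ * X * A⁻¹ := by
    have : X * A = z⁻¹ * (A * X) := by rw [e1]; group
    calc A⁻¹ * X = A⁻¹ * (X * A) * A⁻¹ := by group
      _ = A⁻¹ * z⁻¹ * (A * X) * A⁻¹ := by rw [this]; group
      _ = z⁻¹ * A⁻¹ * (A * X) * A⁻¹ := by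
        have : Commute A⁻¹ z⁻¹ := (show Commute A z from hzc A).inv_inv
        rw [this.eq]
      _ = _ := by group
  have e2' : B⁻¹ * X = w⁻¹ * X * B⁻¹ := by
    have : X * B = w⁻¹ * (B * X) := by rw [e2]; group
    calc B⁻¹ * X = B⁻¹ * (X * B) * B⁻¹ := by group
      _ = B⁻¹ * w⁻¹ * (B * X) * B⁻¹ := by rw [this]; group
      _ = w⁻¹ * B⁻¹ * (B * X) * B⁻¹ := by
        have : Commute B⁻¹ w⁻¹ := (show Commute B w from hwc B).inv_inv
        rw [this.eq]
      _ = _ := by group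
  have cz : ∀ y, Commute z y := fun y => (hzc y).symm
  have cw : ∀ y, Commute w y := fun y => (hwc y).symm
  show A * B * A⁻¹ * B⁻¹ * X = X * (A * B * A⁻¹ * B⁻¹)
  calc A * B * A⁻¹ * B⁻¹ * X = A * B * A⁻¹ * (B⁻¹ * X) := by group
    _ = A * B * (A⁻¹ * w⁻¹) * X * B⁻¹ := by rw [e2']; group
    _ = A * (B * w⁻¹) * (A⁻¹ * X) * B⁻¹ := by rw [(cw A⁻¹).inv_left.eq.symm]; group
    _ = A * (w⁻¹ * B) * (z⁻¹ * X * A⁻¹) * B⁻¹ := by rw [(cw B).inv_left.eq.symm, e1']
    _ = A * w⁻¹ * (B * z⁻¹) * X * A⁻¹ * B⁻¹ := by group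
    _ = A * w⁻¹ * z⁻¹ * (B * X) * A⁻¹ * B⁻¹ := by rw [(cz B).inv_left.eq.symm]; group
    _ = A * (w⁻¹ * z⁻¹ * w) * X * B * A⁻¹ * B⁻¹ := by rw [e2]; group
    _ = A * z⁻¹ * X * B * A⁻¹ * B⁻¹ := by
      rw [show w⁻¹ * z⁻¹ * w = z⁻¹ by rw [(cw z⁻¹).inv_left.eq, mul_assoc, inv_mul_cancel, mul_one]]
    _ = z⁻¹ * (A * X) * B * A⁻¹ * B⁻¹ := by rw [(cz A).inv_left.eq.symm]; group
    _ = X * (A * B * A⁻¹ * B⁻¹) := by rw [e1]; group

/-- a faithful character vanishes on the lifts of a fused element -/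
theorem zero_of_tri [Finite L] (hs : Function.Surjective p) (hc : p.ker ≤ center L) (hk : Nat.card p.ker = 3)
    (χ : IrrCharacter L) (hχ : ∃ z ∈ p.ker, (χ : L → ℂ) z ≠ (χ : L → ℂ) 1) {c x : K} (h : Tri p c x) {X : L}
    (hX : p X = x) : (χ : L → ℂ) X = 0 := by
  obtain ⟨z, hz, hne⟩ := hχ
  have := Fintype.ofFinite L
  obtain ⟨w, -, hw⟩ := CharDeep.DegreeBound.exists_omega χ.2 (hc hz)
  have h1 := h.fuse hs hc hk hX (MonoidHom.mem_ker.1 hz)
  have h2 : (χ : L → ℂ) (X * z) = (χ : L → ℂ) X := by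
    obtain ⟨a, ha⟩ := isConj_iff.1 h1
    rw [← ha]
    exact (Core.isIrr_isClassFunction χ.2) X a
  rw [hw] at h2
  by_contra h3
  have h4 : w = 1 := by
    have : (w - 1) * (χ : L → ℂ) X = 0 := by rw [sub_mul, h2, one_mul, sub_self]
    rcases mul_eq_zero.1 this with h5 | h5
    · exact sub_eq_zero.1 h5
    · exact absurd h5 h3
  apply hne
  have h5 := hw 1
  rwa [one_mul, h4, one_mul] at h5

/-- the homomorphism from `C3 × C3` given by two commuting elements with `X ^ 3 = 1 = Y ^ 3` -/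
def hom9 {X Y : L} (hX : X ^ 3 = 1) (hY : Y ^ 3 = 1) (h : Commute X Y) :
    Multiplicative (ZMod 3) × Multiplicative (ZMod 3) →* L :=
  MonoidHom.mk' (fun a => X ^ (a.1.toAdd).val * Y ^ (a.2.toAdd).val) (by
    rintro ⟨a, b⟩ ⟨c, d⟩
    have e1 : X ^ ((a * c).toAdd).val = X ^ (a.toAdd).val * X ^ (c.toAdd).val := by
      rw [toAdd_mul, ZMod.val_add, ← pow_add, ← pow_eq_pow_mod _ hX]
    have e2 : Y ^ ((b * d).toAdd).val = Y ^ (b.toAdd).val * Y ^ (d.toAdd).val := by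
      rw [toAdd_mul, ZMod.val_add, ← pow_add, ← pow_eq_pow_mod _ hY]
    show X ^ ((a * c).toAdd).val * Y ^ ((b * d).toAdd).val = _
    rw [e1, e2]
    have e3 : Commute (X ^ (c.toAdd).val) (Y ^ (b.toAdd).val) := h.pow_pow _ _
    calc X ^ (a.toAdd).val * X ^ (c.toAdd).val * (Y ^ (b.toAdd).val * Y ^ (d.toAdd).val) =
        X ^ (a.toAdd).val * (X ^ (c.toAdd).val * Y ^ (b.toAdd).val) * Y ^ (d.toAdd).val := by group
      _ = _ := by rw [e3.eq]; group)

theorem zmod3 (a : ZMod 3) : a.val = 0 ∧ a = 0 ∨ a.val = 1 ∨ a.val = 2 := by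
  fin_cases a
  exacts [Or.inl ⟨rfl, rfl⟩, Or.inr (Or.inl rfl), Or.inr (Or.inr rfl)]

/-- **divisibility by 9** -/
theorem nine_dvd_of [Finite L] (hs : Function.Surjective p) (hc : p.ker ≤ center L) (hk : Nat.card p.ker = 3)
    (χ : IrrCharacter L) (hχ : ∃ z ∈ p.ker, (χ : L → ℂ) z ≠ (χ : L → ℂ) 1) {x y : K} {X Y : L} (hpX : p X = x)
    (hpY : p Y = y) (hX : X ^ 3 = 1) (hY : Y ^ 3 = 1) (hXY : Commute X Y) (f1 : ∃ c, Tri p c x) (f2 : ∃ c, Tri p c y)
    (f3 : ∃ c, Tri p c (x * y)) (f4 : ∃ c, Tri p c (x * y⁻¹)) : 9 ∣ charDegree (χ : L → ℂ) := by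
  have hi : ∀ {k : K}, (∃ c, Tri p c k) → ∃ c, Tri p c k⁻¹ := fun ⟨c, h⟩ => ⟨c, h.inv_right⟩
  have hX' : X ^ 2 = X⁻¹ := eq_inv_of_mul_eq_one_left (by rw [← pow_succ, hX])
  have hY' : Y ^ 2 = Y⁻¹ := eq_inv_of_mul_eq_one_left (by rw [← pow_succ, hY])
  have hxy : Commute x y := by rw [← hpX, ← hpY]; exact hXY.map p
  have hz : ∀ (k : K), (∃ c, Tri p c k) → ∀ Z : L, p Z = k → (χ : L → ℂ) Z = 0 :=
    fun k ⟨c, h⟩ Z hZ => zero_of_tri hs hc hk χ hχ h hZ
  have e4 : (x * y)⁻¹ = x⁻¹ * y⁻¹ := by rw [hxy.eq, mul_inv_rev]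
  have e5 : (x * y⁻¹)⁻¹ = x⁻¹ * y := by rw [hxy.inv_right.eq, mul_inv_rev, inv_inv]
  have hf := hi f3
  have hg := hi f4
  rw [e4] at hf
  rw [e5] at hg
  have hv : ∀ g : Multiplicative (ZMod 3) × Multiplicative (ZMod 3), g ∈ (⊤ : Subgroup _) → g ≠ 1 →
      ((χ : L → ℂ) ∘ hom9 hX hY hXY) g = 0 := by
    rintro ⟨a, b⟩ - hne
    show (χ : L → ℂ) (X ^ (a.toAdd).val * Y ^ (b.toAdd).val) = 0
    rcases zmod3 a.toAdd with ⟨ha, ha'⟩ | ha | ha <;> rcases zmod3 b.toAdd with ⟨hb, hb'⟩ | hb | hb <;> rw [ha, hb]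
    · exfalso
      apply hne
      have h1 : a = 1 := ha'
      have h2 : b = 1 := hb'
      rw [h1, h2]; rfl
    · exact hz _ f2 _ (by rw [pow_zero, one_mul, pow_one, hpY])
    · exact hz _ (hi f2) _ (by rw [pow_zero, one_mul, hY', map_inv, hpY])
    · exact hz _ f1 _ (by rw [pow_zero, mul_one, pow_one, hpX])
    · exact hz _ f3 _ (by rw [pow_one, pow_one, map_mul, hpX, hpY])
    · exact hz _ f4 _ (by rw [pow_one, hY', map_mul, map_inv, hpX, hpY])
    · exact hz _ (hi f1) _ (by rw [pow_zero, mul_one, hX', map_inv, hpX])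
    · exact hz _ hg _ (by rw [pow_one, hX', map_mul, map_inv, hpX, hpY])
    · exact hz _ hf _ (by rw [hX', hY', map_mul, map_inv, map_inv, hpX, hpY])
  obtain ⟨k, hk9⟩ := S0189.card_dvd_degree_of_vanishing (⊤ : Subgroup (Multiplicative (ZMod 3) × Multiplicative (ZMod 3)))
    ((χ : L → ℂ) ∘ hom9 hX hY hXY) (isCharacter_comp _ (isIrr_isCharacter χ.2)) hv
  have h9 : Nat.card (⊤ : Subgroup (Multiplicative (ZMod 3) × Multiplicative (ZMod 3))) = 9 := by
    rw [Subgroup.card_top, Nat.card_prod, Nat.card_eq_fintype_card]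
    rfl
  rw [h9] at hk9
  have h1 : ((χ : L → ℂ) ∘ hom9 hX hY hXY) 1 = charDegree (χ : L → ℂ) := by
    show (χ : L → ℂ) (hom9 hX hY hXY 1) = _
    rw [map_one, Blocks.Knorr.charDegree_eq χ.2]
  rw [h1] at hk9
  exact ⟨k, by exact_mod_cast hk9⟩

end Gen

/-! ### the group -/

def t1 : List Gen := [.a,.k,.b,.l,.a,.c,.k,.b,.a,.j]
def t2 : List Gen := [.d,.c,.e,.b,.d,.f,.c,.e,.d,.j]
def yw : List Gen := [.d,.e,.f,.c,.d,.e,.b,.c,.d,.a,.b,.c,.k,.a,.b,.l,.k,.a]
def w1 : List Gen := [.d,.e,.a,.b,.c,.d,.b,.k,.a,.j]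
def w2 : List Gen := [.e,.f,.c,.d,.e,.a,.b,.c,.d,.a,.b,.k,.a,.j]
def w3 : List Gen := [.f,.b,.c,.d,.e,.a,.b,.c,.d,.c,.b,.k,.a,.j]
def w4 : List Gen := [.l,.b,.e,.j]

set_option maxRecDepth 100000 in
private theorem pn_all_0 :
    (eqB (t1 ++ t2 ++ t1.reverse ++ t2.reverse) yw = true) ∧
    (eqB (t1 ++ X3) (X3 ++ t1) = true) ∧
    (eqB (t2 ++ X3) (X3 ++ t2) = true) ∧
    (eqB (w1 ++ X3 ++ w1.reverse) yw.reverse = true) ∧
    (eqB (w2 ++ X3 ++ w2.reverse) (yw.reverse ++ X3.reverse) = true) ∧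
    (eqB (w3 ++ X3 ++ w3.reverse) (X3 ++ yw.reverse) = true) ∧
    (eqB (w4 ++ X3 ++ w4.reverse) X3.reverse = true) := by
  (rewrite [show @Cfsg.Agent.LThreeFi24.FiveConj.eqB = delta% @Cfsg.Agent.LThreeFi24.FiveConj.eqB from by delta Cfsg.Agent.LThreeFi24.FiveConj.eqB; rfl, show @Cfsg.Agent.LThreeFi24.FiveConj.eqL = delta% @Cfsg.Agent.LThreeFi24.FiveConj.eqL from by delta Cfsg.Agent.LThreeFi24.FiveConj.eqL; rfl, show @Cfsg.Agent.LThreeFi24.FiveConj.eqL._f = delta% @Cfsg.Agent.LThreeFi24.FiveConj.eqL._f from by delta Cfsg.Agent.LThreeFi24.FiveConj.eqL._f; rfl, Cfsg.Agent.Lib.PermNetFast.winv_fast]; decide +kernel)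

theorem chkA : eqB (t1 ++ t2 ++ t1.reverse ++ t2.reverse) yw = true :=
  pn_all_0.1
theorem chkB : eqB (t1 ++ X3) (X3 ++ t1) = true :=
  pn_all_0.2.1
theorem chkC : eqB (t2 ++ X3) (X3 ++ t2) = true :=
  pn_all_0.2.2.1
theorem chkD : eqB (w1 ++ X3 ++ w1.reverse) yw.reverse = true :=
  pn_all_0.2.2.2.1
theorem chkE : eqB (w2 ++ X3 ++ w2.reverse) (yw.reverse ++ X3.reverse) = true :=
  pn_all_0.2.2.2.2.1
theorem chkF : eqB (w3 ++ X3 ++ w3.reverse) (X3 ++ yw.reverse) = true :=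
  pn_all_0.2.2.2.2.2.1
theorem chkG : eqB (w4 ++ X3 ++ w4.reverse) X3.reverse = true :=
  pn_all_0.2.2.2.2.2.2

theorem comm_of_chk {g w : List Gen} (hg : g.length % 2 = 0) (hw : w.length % 2 = 0) (h : eqB (g ++ w) (w ++ g) = true) :
    Commute (wK g hg) (wK w hw) := by
  apply Subtype.ext
  show word g * word w = word w * word g
  rw [← word_append, ← word_append, eq_of_eqB h]

theorem conj_of_chk {g w v : List Gen} (hg : g.length % 2 = 0) (hw : w.length % 2 = 0) {k : Spor.Fi24'}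
    (h : eqB (g ++ w ++ g.reverse) v = true) (hk : (k : Spor.Fi24) = word v) : wK g hg * wK w hw * (wK g hg)⁻¹ = k := by
  apply Subtype.ext
  show word g * word w * (word g)⁻¹ = k
  rw [hk, ← eq_of_eqB h, word_append, word_append, word_reverse]

/-- **9 divides the degrees of the faithful characters of the triple cover.** -/
theorem nine_dvd (χ : IrrCharacter L3) (hχ : ∃ z ∈ π3.ker, (χ : L3 → ℂ) z ≠ (χ : L3 → ℂ) 1) :
    9 ∣ charDegree (χ : L3 → ℂ) := by
  have : Finite P3 := card_P3.1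
  have : Finite L3 := inferInstanceAs (Finite ↥(_root_.commutator P3))
  obtain ⟨A, hA⟩ := hs3 (wK t1 rfl)
  obtain ⟨B, hB⟩ := hs3 (wK t2 rfl)
  obtain ⟨X, hX⟩ := hs3 (wK X3 rfl)
  have hY : π3 (A * B * A⁻¹ * B⁻¹) = wK yw rfl := by
    simp only [map_mul, map_inv]
    rw [hA, hB]
    apply Subtype.ext
    show word t1 * word t2 * (word t1)⁻¹ * (word t2)⁻¹ = word yw
    rw [← eq_of_eqB chkA]
    simp only [word_append, word_reverse]
  have x3 : (wK X3 rfl) ^ 3 = 1 := cube_wK rfl cube3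
  have hinv : wK w4 rfl * wK X3 rfl * (wK w4 rfl)⁻¹ = (wK X3 rfl)⁻¹ := by
    refine conj_of_chk rfl rfl chkG ?_
    rw [word_reverse]; rfl
  have hconj : wK w1 rfl * wK X3 rfl * (wK w1 rfl)⁻¹ = (wK yw rfl)⁻¹ := by
    refine conj_of_chk rfl rfl chkD ?_
    rw [word_reverse]; rfl
  have hconj' : wK yw rfl = wK w1 rfl * (wK X3 rfl)⁻¹ * (wK w1 rfl)⁻¹ := by
    rw [← inv_inv (wK yw rfl), ← hconj]; group
  have y3 : (wK yw rfl) ^ 3 = 1 := by
    rw [hconj', conj_pow, inv_pow, x3, inv_one, mul_one, mul_inv_cancel]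
  have hinvy : (wK w1 rfl * wK w4 rfl * (wK w1 rfl)⁻¹) * wK yw rfl * (wK w1 rfl * wK w4 rfl * (wK w1 rfl)⁻¹)⁻¹ =
      (wK yw rfl)⁻¹ := by
    rw [hconj']
    have h5 : wK w4 rfl * (wK X3 rfl)⁻¹ * (wK w4 rfl)⁻¹ = wK X3 rfl := by
      have h6 := congrArg (fun k => k⁻¹) hinv
      simp only [mul_inv_rev, inv_inv] at h6
      rw [mul_assoc]; exact h6
    calc (wK w1 rfl * wK w4 rfl * (wK w1 rfl)⁻¹) * (wK w1 rfl * (wK X3 rfl)⁻¹ * (wK w1 rfl)⁻¹) *
        (wK w1 rfl * wK w4 rfl * (wK w1 rfl)⁻¹)⁻¹ =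
        wK w1 rfl * (wK w4 rfl * (wK X3 rfl)⁻¹ * (wK w4 rfl)⁻¹) * (wK w1 rfl)⁻¹ := by group
      _ = _ := by rw [h5]; group
  have hXY : Commute X (A * B * A⁻¹ * B⁻¹) :=
    (commute_comm hc3 (by rw [hA, hX]; exact comm_of_chk rfl rfl chkB)
      (by rw [hB, hX]; exact comm_of_chk rfl rfl chkC)).symm
  refine nine_dvd_of hs3 hc3 card_ker_L3 χ hχ hX hY (cube_one hs3 hc3 card_ker_L3 x3 hinv hX)
    (cube_one hs3 hc3 card_ker_L3 y3 hinvy hY) hXY ⟨_, tri3⟩ ?_ ?_ ?_
  · have h1 := (tri3.conj hs3 (wK w1 rfl)).inv_right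
    rw [hconj, inv_inv] at h1
    exact ⟨_, h1⟩
  · have h1 := (tri3.conj hs3 (wK w2 rfl)).inv_right
    rw [conj_of_chk rfl rfl chkE (k := (wK X3 rfl * wK yw rfl)⁻¹) (by
      rw [word_append, word_reverse, word_reverse, mul_inv_rev]; rfl), inv_inv] at h1
    exact ⟨_, h1⟩
  · have h1 := tri3.conj hs3 (wK w3 rfl)
    rw [conj_of_chk rfl rfl chkF (k := wK X3 rfl * (wK yw rfl)⁻¹) (by
      rw [word_append, word_reverse]; rfl)] at h1
    exact ⟨_, h1⟩

end Cfsg.Agent.H610.TF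
end

-- part: H856/TF/Enum
section
/-!
# `Fi₂₃`: all pairs `(χ(1), χ(3A))` with `χ(1) ≤ 45747` (helper856)

`TB` : the degrees `f ≤ 45747` (as `m J`) and for each of them the pairs `(T, D)`: `T = χ(3A)`, `D` a lower bound of
`χ(2B) - χ(2A)`; `key_of`, `tableOK` : the table is complete.
-/

set_option autoImplicit false
set_option maxRecDepth 100000

namespace Cfsg.Agent.H856.TF

open Cfsg Subgroup Cfsg.Agent.Fischer.Fi23Hom Cfsg.Agent.LThreeFi23
open Cfsg.Agent.Characters.Core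
open Cfsg.Spor (Fi23)
open Cfsg.Agent.H511.Ore Cfsg.Agent.H856.F23

/-- the entry of the character of degree 782 -/
def K0 : ℤ × ℤ × ℤ := (782, -1, 0)

/-- the degrees `m J`, with `J = gcd (m J, 31671)`, and the pairs `(T, D)` -/
def TB : List ((ℕ × ℕ) × List (ℤ × ℤ)) := [
  ((32, 9), []), ((14, 51), []), ((44, 17), []), ((2, 391), [(-1, 0)]), ((2, 621), []), ((65, 23), []), ((88,
  17), []), ((13, 153), []), ((11, 207), []), ((7, 391), []), ((52, 69), [(78, -376)]), ((11, 391), []), ((13,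
  391), [(169, -768)]), ((28, 207), []), ((5, 1173), []), ((275, 23), []), ((286, 23), []), ((416, 17), []),
  ((320, 23), []), ((20, 391), [(98, 408)]), ((154, 51), []), ((56, 153), [(378, -2576)]), ((5, 1863), []), ((8,
  1173), []), ((26, 391), [(-13, -112)]), ((640, 17), []), ((715, 17), [(923, -1496)]), ((11, 1173), [(267,
  -2354), (2724, -4466)]), ((4550, 3), []), ((832, 17), []), ((40, 391), [(547, -3012), (2437, -6400)]), ((728,
  23), []), ((112, 153), []), ((352, 51), [(-300, 2112)]), ((6160, 3), []), ((1100, 17), []), ((7168, 3), []),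
  ((1430, 17), [(91, -737), (2197, -11209), (5005, -12980)]), ((64, 391), [(1021, 1120), (5368, -6272), (7825,
  -11648)]), ((25025, 1), []), ((22, 1173), [(-384, 2816), (183, -2189), (2073, -13893), (2640, -15664), (5097,
  -12749)]), ((520, 51), [(3354, -14016), (5811, -13540)]), ((77, 391), [(623, -5082), (1190, -9856), (3080,
  -5082), (6104, -11242)]), ((1144, 27), [(351, -2816)]), ((70, 459), [(-357, 1981), (189, -2387), (1281,
  -7931), (2100, -7196), (3738, -924), (5103, -15036), (7014, -9275), (7833, -13244)]), ((1408, 23), []), ((28,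
  1173), [(903, -8050), (5817, -3584)]), ((10, 3519), [(-378, 2375), (-27, -628), (189, -1769), (441, 1311),
  (540, -5313), (792, -7280), (1008, -8097), (1359, -10484), (2079, 1388), (2430, -15673), (2646, -17204),
  (2898, -18401), (2997, -15860), (3249, -6004), (3816, -17521), (4536, -18324), (4887, -11977), (5454, -5633),
  (5706, -11121), (5922, -13396), (7344, -17169), (7911, -15764), (8163, -13748), (8379, -14817), (9801,
  -16896), (10620, -13300)]), ((704, 51), [(10011, -14432)]), ((176, 207), [(981, -8888), (9990, -16896)]),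
  ((27, 1377), [(540, -4664), (2430, -5994)]), ((2275, 17), [(4277, -15512)]), ((91, 459), [(-546, 3584), (1911,
  -16128), (2457, -11200), (2730, -6734), (5187, -26446), (9282, -15358)]), ((110, 391), [(890, -8316), (3347,
  -23067), (5804, -25179), (8261, -20988), (13175, -19712)]), ((70, 621), [(378, -3045), (2289, -7588), (4746,
  -27300), (10479, -20909)]), ((286, 153), [(0, -1188), (351, -4037), (1989, -11396), (2457, -14509), (2808,
  -20669), (4095, -15125), (4446, -10549), (5265, -23364), (6552, -3652), (6903, -16896), (7722, -14861), (9009,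
  -23364), (11817, -14509), (12285, -20592)]), ((13, 3519), [(-1287, 9352), (351, -4090), (1170, -10360), (2808,
  -16256), (5265, -28378), (7722, -20216), (10179, -13440)])]

structure Str (f A B T : ℤ) : Prop where
  v1 : 0 ≤ f + B - 2 * A
  v2 : 0 ≤ f + B + 2 * A
  s1 : 0 ≤ f + 2 * T - 3 * A
  s2 : 0 ≤ f + 2 * T + 3 * A
  r1 : 0 ≤ f + 2 * T - 3 * B
  r2 : 0 ≤ f + 2 * T + 3 * B
  b1 : B ≤ f
  b2 : T ≤ f
  dvd : f ∣ 31671 * A
  rel : 31671 * (A * A) = f * (f + 3510 * B + 28160 * T)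
  m7 : C7 f A B T = true
  m13 : C13 f A T = true
  m11 : C11 f A B = true

/-- the residues modulo 11, without `B` -/
def pre11 (f A : ℤ) : Bool :=
  [((0 : ℤ), (0 : ℤ)), (1, 1), (-1, -1), (1, -1), (-1, 1), (2, 0), (-2, 0), (1, 0), (-1, 0)].any fun t =>
    (f - t.1) % 11 == 0 && (A - t.2) % 11 == 0

theorem pre11_of {f A B : ℤ} (h : C11 f A B = true) : pre11 f A = true := by
  unfold C11 at h
  rw [List.any_eq_true] at h
  obtain ⟨t, ht, h⟩ := h
  simp only [Bool.and_eq_true, beq_iff_eq] at h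
  unfold pre11
  rw [List.any_eq_true]
  refine ⟨(t.1, t.2.1), ?_, ?_⟩
  · have : ∀ t ∈ [((0 : ℤ), (0 : ℤ), (0 : ℤ)), (1, 1, 1), (-1, -1, -1), (1, -1, 1), (-1, 1, -1), (2, 0, -2), (-2, 0, 2),
      (1, 0, -1), (-1, 0, 1)], (t.1, t.2.1) ∈
        [((0 : ℤ), (0 : ℤ)), (1, 1), (-1, -1), (1, -1), (-1, 1), (2, 0), (-2, 0), (1, 0), (-1, 0)] := by
      decide +kernel
    exact this t ht
  · simp only [Bool.and_eq_true, beq_iff_eq]
    exact ⟨h.1, h.2.1⟩

/-- forced evaluation -/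
def seqN (n : ℕ) (k : ℕ → Bool) : Bool := Nat.rec (motive := fun _ => Bool) (k 0) (fun m _ => k (m + 1)) n

theorem seqN_eq (n : ℕ) (k : ℕ → Bool) : seqN n k = k n := by cases n <;> rfl

/-- forced evaluation -/
def seqI (x : ℤ) (k : ℤ → Bool) : Bool :=
  match x with
  | .ofNat n => seqN n fun n => k (.ofNat n)
  | .negSucc n => seqN n fun n => k (.negSucc n)

theorem seqI_eq (x : ℤ) (k : ℤ → Bool) : seqI x k = k x := by
  cases x with
  | ofNat n => exact seqN_eq n fun n => k (.ofNat n)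
  | negSucc n => exact seqN_eq n fun n => k (.negSucc n)

/-- `0 ≤ x` -/
def nn (x : ℤ) : Bool :=
  match x with
  | .ofNat _ => true
  | .negSucc _ => false

theorem nn_of {x : ℤ} (h : 0 ≤ x) : nn x = true := by
  cases x with
  | ofNat n => rfl
  | negSucc n => exact absurd h (by omega)

theorem le_of_nn {x : ℤ} (h : nn x = true) : 0 ≤ x := by
  cases x with
  | ofNat n => exact Int.natCast_nonneg n
  | negSucc n => exact absurd h Bool.false_ne_true

/-- `p ∣ x` -/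
def dv (p : ℕ) (x : ℤ) : Bool := Nat.beq (x.natAbs % p) 0

theorem dv_of {p : ℕ} {x : ℤ} (h : (p : ℤ) ∣ x) : dv p x = true := by
  unfold dv
  have h1 : x.natAbs % p = 0 := Nat.mod_eq_zero_of_dvd (Int.natCast_dvd.1 h)
  rw [h1]
  rfl

/-- the residues modulo 7 -/
def D7 (f A B T : ℤ) : Bool :=
  [(0 : ℤ), 1, -1].any fun c => q7.any fun t => dv 7 (f - c * t.1) && (dv 7 (A - c * t.2.1) &&
    (dv 7 (B - c * t.2.2.1) && dv 7 (T - c * t.2.2.2)))

/-- the residues modulo 13 -/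
def D13 (f A T : ℤ) : Bool :=
  [(0 : ℤ), 1, -1, 6, -6].any fun c => [((1 : ℤ), (1 : ℤ), (1 : ℤ)), (1, -1, 1), (2, 0, -1)].any fun t =>
    dv 13 (f - c * t.1) && (dv 13 (A - c * t.2.1) && dv 13 (T - c * t.2.2))

/-- the residues modulo 11 -/
def D11 (f A B : ℤ) : Bool :=
  [((0 : ℤ), (0 : ℤ), (0 : ℤ)), (1, 1, 1), (-1, -1, -1), (1, -1, 1), (-1, 1, -1), (2, 0, -2), (-2, 0, 2), (1, 0, -1),
    (-1, 0, 1)].any fun t => dv 11 (f - t.1) && (dv 11 (A - t.2.1) && dv 11 (B - t.2.2))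

theorem D7_of {f A B T : ℤ} (h : C7 f A B T = true) : D7 f A B T = true := by
  unfold C7 at h
  rw [List.any_eq_true] at h
  obtain ⟨c, hc, h⟩ := h
  rw [List.any_eq_true] at h
  obtain ⟨t, ht, h⟩ := h
  simp only [Bool.and_eq_true, beq_iff_eq] at h
  refine List.any_eq_true.2 ⟨c, hc, List.any_eq_true.2 ⟨t, ht, ?_⟩⟩
  simp only [Bool.and_eq_true]
  exact ⟨dv_of (Int.dvd_of_emod_eq_zero h.1), dv_of (Int.dvd_of_emod_eq_zero h.2.1),
    dv_of (Int.dvd_of_emod_eq_zero h.2.2.1), dv_of (Int.dvd_of_emod_eq_zero h.2.2.2)⟩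

theorem D13_of {f A T : ℤ} (h : C13 f A T = true) : D13 f A T = true := by
  unfold C13 at h
  rw [List.any_eq_true] at h
  obtain ⟨c, hc, h⟩ := h
  rw [List.any_eq_true] at h
  obtain ⟨t, ht, h⟩ := h
  simp only [Bool.and_eq_true, beq_iff_eq] at h
  refine List.any_eq_true.2 ⟨c, hc, List.any_eq_true.2 ⟨t, ht, ?_⟩⟩
  simp only [Bool.and_eq_true]
  exact ⟨dv_of (Int.dvd_of_emod_eq_zero h.1), dv_of (Int.dvd_of_emod_eq_zero h.2.1),
    dv_of (Int.dvd_of_emod_eq_zero h.2.2)⟩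

theorem D11_of {f A B : ℤ} (h : C11 f A B = true) : D11 f A B = true := by
  unfold C11 at h
  rw [List.any_eq_true] at h
  obtain ⟨t, ht, h⟩ := h
  simp only [Bool.and_eq_true, beq_iff_eq] at h
  refine List.any_eq_true.2 ⟨t, ht, ?_⟩
  simp only [Bool.and_eq_true]
  exact ⟨dv_of (Int.dvd_of_emod_eq_zero h.1), dv_of (Int.dvd_of_emod_eq_zero h.2.1),
    dv_of (Int.dvd_of_emod_eq_zero h.2.2)⟩

/-- the good quadruples -/
def good (f A B T : ℤ) : Bool :=
  nn (f + 2 * T - 3 * B) && (nn (f + 2 * T + 3 * B) && (D11 f A B && (D13 f A T && (nn (f - B) && (nn (f + B - 2 * A) &&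
    (nn (f + B + 2 * A) && (nn (f + 2 * T - 3 * A) && (nn (f + 2 * T + 3 * A) && D7 f A B T))))))))

/-- the entry belongs to the table -/
def key (K : List (ℤ × ℤ)) (A B T : ℤ) : Bool :=
  K.any fun k => Nat.beq (k.1 - T).natAbs 0 && nn (B - A - k.2)

/-- the residues modulo 7, without `B`, `T` -/
def pre7 (f A : ℤ) : Bool :=
  [((1 : ℤ), (1 : ℤ)), (1, -1), (-1, 1), (-1, -1), (4, 2), (4, -2), (-4, 2), (-4, -2), (5, 1), (5, -1), (-5, 1),
    (-5, -1), (6, 0), (-6, 0), (0, 0)].any fun t => dv 7 (f - t.1) && dv 7 (A - t.2)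

theorem pre7_of {f A B T : ℤ} (h : C7 f A B T = true) : pre7 f A = true := by
  unfold C7 at h
  rw [List.any_eq_true] at h
  obtain ⟨c, hc, h⟩ := h
  rw [List.any_eq_true] at h
  obtain ⟨t, ht, h⟩ := h
  simp only [Bool.and_eq_true, beq_iff_eq] at h
  refine List.any_eq_true.2 ⟨(c * t.1, c * t.2.1), ?_, ?_⟩
  · have : ∀ c ∈ [(0 : ℤ), 1, -1], ∀ t ∈ q7, (c * t.1, c * t.2.1) ∈
      [((1 : ℤ), (1 : ℤ)), (1, -1), (-1, 1), (-1, -1), (4, 2), (4, -2), (-4, 2), (-4, -2), (5, 1), (5, -1), (-5, 1),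
        (-5, -1), (6, 0), (-6, 0), (0, 0)] := by decide +kernel
    exact this c hc t ht
  · simp only [Bool.and_eq_true]
    exact ⟨dv_of (Int.dvd_of_emod_eq_zero h.1), dv_of (Int.dvd_of_emod_eq_zero h.2.1)⟩

/-- the loop over `T` -/
def innr (K : List (ℤ × ℤ)) (f A : ℤ) : Bool :=
  bif !(pre7 f A) || !(Nat.beq (31671 * (A * A) % f).natAbs 0) then true else
  bif !(dv 10 (31671 * (A * A) / f - f)) then true else
  seqI ((31671 * (A * A) / f - f) / 10) fun R =>
  seqI ((R - 117 * f) / 1070550 - 1) fun lo =>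
  seqI ((44 * R) % 351) fun T0 =>
  (List.range ((R + 117 * f) / 906282 - lo + 1).toNat).all fun k =>
    seqI (T0 + 351 * ((k : ℤ) + lo)) fun T =>
    seqI ((R - 2816 * T) / 351) fun B =>
    !(good f A B T) || key K A B T

/-- the residues modulo 143 of the possible `j` -/
def filt (f m : ℤ) : List ℕ := (List.range 143).filter fun r => c13 f (m * r) && pre11 f (m * r)

/-- the loop over `A = m j`, `|j| < J` -/
def chkK (K : List (ℤ × ℤ)) (f m : ℤ) (J : ℕ) (G : List ℕ) : Bool :=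
  G.all fun r => (List.range (2 * (J / 143 + 1) + 1)).all fun b =>
    seqI ((r : ℤ) + 143 * ((b : ℤ) - ((J / 143 + 1 : ℕ) : ℤ))) fun j =>
    bif nn (j + J - 1) && nn (J - j - 1) then seqI (m * j) fun A => innr K f A else true

theorem c13_cong {f A A' : ℤ} (h : (13 : ℤ) ∣ A - A') (hc : c13 f A = true) : c13 f A' = true := by
  unfold c13 at hc ⊢
  rw [List.any_eq_true] at hc ⊢
  obtain ⟨c, hc1, hc⟩ := hc
  rw [List.any_eq_true] at hc
  obtain ⟨t, ht, hc⟩ := hc
  refine ⟨c, hc1, List.any_eq_true.2 ⟨t, ht, ?_⟩⟩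
  simp only [Bool.and_eq_true, beq_iff_eq] at hc ⊢
  refine ⟨hc.1, ?_⟩
  have := hc.2
  generalize c * t.2 = w at *
  omega

theorem pre11_cong {f A A' : ℤ} (h : (11 : ℤ) ∣ A - A') (hc : pre11 f A = true) : pre11 f A' = true := by
  unfold pre11 at hc ⊢
  rw [List.any_eq_true] at hc ⊢
  obtain ⟨t, ht, hc⟩ := hc
  refine ⟨t, ht, ?_⟩
  simp only [Bool.and_eq_true, beq_iff_eq] at hc ⊢
  refine ⟨hc.1, ?_⟩
  have := hc.2
  omega

theorem key_of {K : List (ℤ × ℤ)} {f m : ℤ} {J : ℕ} (hf : 0 < f) (hm : ∀ A : ℤ, f ∣ 31671 * A → m ∣ A)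
    (hJ : f = m * J) (hm0 : 0 < m) (h : chkK K f m J (filt f m) = true) {A B T : ℤ}
    (hd : Str f A B T) (hA1 : -f < A) (hA2 : A < f) : key K A B T = true := by
  obtain ⟨v1, v2, s1, s2, r1, r2, b1, b2, dvd, rel, m7, m13, m11⟩ := hd
  obtain ⟨j, rfl⟩ := hm A dvd
  have hj1 : j < J := by
    by_contra hcon
    push Not at hcon
    have : m * J ≤ m * j := mul_le_mul_of_nonneg_left hcon hm0.le
    omega
  have hj2 : -(J : ℤ) < j := by
    by_contra hcon
    push Not at hcon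
    have h1 : m * J ≤ m * (-j) := mul_le_mul_of_nonneg_left (by omega) hm0.le
    have h2 : m * (-j) = -(m * j) := by ring
    omega
  unfold chkK at h
  rw [List.all_eq_true] at h
  have hq : (143 : ℤ) ∣ m * j - m * ((j % 143).toNat : ℕ) := by
    have e : m * j - m * ((j % 143).toNat : ℕ) = m * (j - ((j % 143).toNat : ℕ)) := by ring
    rw [e]
    exact Dvd.dvd.mul_left (by omega) _
  have hmem : (j % 143).toNat ∈ filt f m := by
    unfold filt
    rw [List.mem_filter]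
    refine ⟨List.mem_range.2 (by omega), ?_⟩
    rw [Bool.and_eq_true]
    exact ⟨c13_cong (dvd_trans (by norm_num) hq) (c13_of m13), pre11_cong (dvd_trans (by norm_num) hq) (pre11_of m11)⟩
  have h0 := h _ hmem
  simp only [seqI_eq, innr] at h0
  rw [List.all_eq_true] at h0
  have h1 := h0 (j / 143 + ((J / 143 + 1 : ℕ) : ℤ)).toNat (List.mem_range.2 (by omega))
  have h2 : ((j % 143).toNat : ℤ) + 143 * (((j / 143 + ((J / 143 + 1 : ℕ) : ℤ)).toNat : ℤ) - ((J / 143 + 1 : ℕ) : ℤ)) = j := by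
    (clear * - hj2; solve | lia | omega)
  simp only [h2] at h1
  rw [nn_of (x := j + J - 1) (by omega), nn_of (x := (J : ℤ) - j - 1) (by omega)] at h1
  simp only [Bool.and_self, cond_true] at h1
  have hR : 31671 * (m * j * (m * j)) / f = f + 3510 * B + 28160 * T := by
    rw [rel]
    exact Int.mul_ediv_cancel_left _ hf.ne'
  have hR2 : (31671 * (m * j * (m * j)) / f - f) / 10 = 351 * B + 2816 * T := by
    rw [hR]; omega
  have hR3 : dv 10 (31671 * (m * j * (m * j)) / f - f) = true := by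
    rw [hR]; exact dv_of (by omega)
  have hR4 : Nat.beq (31671 * (m * j * (m * j)) % f).natAbs 0 = true := by
    rw [rel, Int.mul_emod_right]; rfl
  rw [pre7_of m7, hR3, hR4] at h1
  simp only [Bool.not_true, Bool.or_self, cond_false] at h1
  rw [hR2, List.all_eq_true] at h1
  have h3 := h1 (T / 351 - ((351 * B + 2816 * T - 117 * f) / 1070550 - 1)).toNat (List.mem_range.2 (by (clear * - r1 r2; omega)))
  have h4 : (((T / 351 - ((351 * B + 2816 * T - 117 * f) / 1070550 - 1)).toNat : ℕ) : ℤ) +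
      ((351 * B + 2816 * T - 117 * f) / 1070550 - 1) = T / 351 := by (clear * - r1; omega)
  have h5 : (44 * (351 * B + 2816 * T)) % 351 + 351 * (T / 351) = T := by (clear * -; solve | lia | omega)
  have h6 : (351 * B + 2816 * T - 2816 * T) / 351 = B := by omega
  simp only [h4, h5, h6] at h3
  have hg : good f (m * j) B T = true := by
    unfold good
    rw [nn_of (x := f - B) (by omega), nn_of v1, nn_of v2, nn_of s1, nn_of s2, nn_of r1, nn_of r2, D7_of m7, D11_of m11,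
      D13_of m13]
    rfl
  rw [hg] at h3
  simpa using h3

/-- the check of one degree -/
def oneOK (e : (ℕ × ℕ) × List (ℤ × ℤ)) : Bool :=
  Nat.beq (31671 % e.1.2) 0 && (Nat.beq (Nat.gcd e.1.1 (31671 / e.1.2)) 1 &&
    seqN (e.1.1 * e.1.2) fun f => chkK e.2 (f : ℤ) (e.1.1 : ℤ) e.1.2 (filt (f : ℤ) (e.1.1 : ℤ)))

private noncomputable def _root_.Cfsg.Agent.LsF.f53c0fb_9 : {f // @Cfsg.Agent.H856.TF.seqN = f} := ⟨_, by first | (delta Cfsg.Agent.H856.TF.seqN; rewrite [Cfsg.Agent.LsF.nadd_pat]; exact rfl) | exact rfl⟩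
private noncomputable def _root_.Cfsg.Agent.LsF.f53c0fb_10 : {f // @Cfsg.Agent.H856.TF.seqI = f} := ⟨_, by first | (delta Cfsg.Agent.H856.TF.seqI; rewrite [Cfsg.Agent.LsF.f53c0fb_9.2]; (try delta Cfsg.Agent.H856.TF.seqI.match_1); (try delta Int.casesOn); exact rfl) | exact rfl⟩
private noncomputable def _root_.Cfsg.Agent.LsF.f53c0fb_11 : {f // @Cfsg.Agent.H856.TF.nn = f} := ⟨_, by first | (delta Cfsg.Agent.H856.TF.nn; (try delta Cfsg.Agent.H856.TF.seqI.match_1); (try delta Int.casesOn); exact rfl) | exact rfl⟩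
private noncomputable def _root_.Cfsg.Agent.LsF.f53c0fb_12 : {f // @Cfsg.Agent.H856.TF.dv = f} := ⟨_, by first | (delta Cfsg.Agent.H856.TF.dv; rewrite [Cfsg.Agent.LsF.nmod_pat, Cfsg.Agent.LsF.natAbs_eq]; exact rfl) | exact rfl⟩
private noncomputable def _root_.Cfsg.Agent.LsF.f53c0fb_13 : {f // @Cfsg.Agent.H856.TF.pre7 = f} := ⟨_, by first | (delta Cfsg.Agent.H856.TF.pre7; rewrite [Cfsg.Agent.LsF.f53c0fb_12.2, Cfsg.Agent.LsF.isub_pat, Cfsg.Agent.LsF.ineg_pat, Cfsg.Agent.LsF.and_eq, Cfsg.Agent.LsF.any_eq]; exact rfl) | exact rfl⟩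
private noncomputable def _root_.Cfsg.Agent.LsF.f53c0fb_14 : {f // @Cfsg.Agent.H856.TF.D11 = f} := ⟨_, by first | (delta Cfsg.Agent.H856.TF.D11; rewrite [Cfsg.Agent.LsF.f53c0fb_12.2, Cfsg.Agent.LsF.isub_pat, Cfsg.Agent.LsF.ineg_pat, Cfsg.Agent.LsF.and_eq, Cfsg.Agent.LsF.any_eq]; exact rfl) | exact rfl⟩
private noncomputable def _root_.Cfsg.Agent.LsF.f53c0fb_15 : {f // @Cfsg.Agent.H856.TF.D13 = f} := ⟨_, by first | (delta Cfsg.Agent.H856.TF.D13; rewrite [Cfsg.Agent.LsF.f53c0fb_12.2, Cfsg.Agent.LsF.imul_pat, Cfsg.Agent.LsF.isub_pat, Cfsg.Agent.LsF.ineg_pat, Cfsg.Agent.LsF.and_eq, Cfsg.Agent.LsF.any_eq]; exact rfl) | exact rfl⟩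
private noncomputable def _root_.Cfsg.Agent.LsF.f53c0fb_16 : {f // @Cfsg.Agent.H856.TF.D7 = f} := ⟨_, by first | (delta Cfsg.Agent.H856.TF.D7; rewrite [Cfsg.Agent.LsF.f53c0fb_12.2, Cfsg.Agent.LsF.imul_pat, Cfsg.Agent.LsF.isub_pat, Cfsg.Agent.LsF.ineg_pat, Cfsg.Agent.LsF.and_eq, Cfsg.Agent.LsF.any_eq]; exact rfl) | exact rfl⟩
private noncomputable def _root_.Cfsg.Agent.LsF.f53c0fb_17 : {f // @Cfsg.Agent.H856.TF.good = f} := ⟨_, by first | (delta Cfsg.Agent.H856.TF.good; rewrite [Cfsg.Agent.LsF.f53c0fb_11.2, Cfsg.Agent.LsF.f53c0fb_14.2, Cfsg.Agent.LsF.f53c0fb_15.2, Cfsg.Agent.LsF.f53c0fb_16.2, Cfsg.Agent.LsF.iadd_pat, Cfsg.Agent.LsF.imul_pat, Cfsg.Agent.LsF.isub_pat, Cfsg.Agent.LsF.and_eq]; exact rfl) | exact rfl⟩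
private noncomputable def _root_.Cfsg.Agent.LsF.f53c0fb_18 : {f // @Cfsg.Agent.H856.TF.key = f} := ⟨_, by first | (delta Cfsg.Agent.H856.TF.key; rewrite [Cfsg.Agent.LsF.f53c0fb_11.2, Cfsg.Agent.LsF.isub_pat, Cfsg.Agent.LsF.and_eq, Cfsg.Agent.LsF.any_eq, Cfsg.Agent.LsF.natAbs_eq]; exact rfl) | exact rfl⟩
private noncomputable def _root_.Cfsg.Agent.LsF.f53c0fb_19 : {f // @Cfsg.Agent.H856.TF.innr = f} := ⟨_, by first | (delta Cfsg.Agent.H856.TF.innr; rewrite [Cfsg.Agent.LsF.f53c0fb_13.2, Cfsg.Agent.LsF.f53c0fb_12.2, Cfsg.Agent.LsF.f53c0fb_10.2, Cfsg.Agent.LsF.f53c0fb_17.2, Cfsg.Agent.LsF.f53c0fb_18.2, Cfsg.Agent.LsF.iadd_pat, Cfsg.Agent.LsF.imul_pat, Cfsg.Agent.LsF.isub_pat, Cfsg.Agent.LsF.imod_pat, Cfsg.Agent.LsF.icast_pat, Cfsg.Agent.LsF.or_eq, Cfsg.Agent.LsF.not_eq, Cfsg.Agent.LsF.cond_eq, Cfsg.Agent.LsF.all_eq, Cfsg.Agent.LsF.range_eq, Cfsg.Agent.LsF.natAbs_eq, Cfsg.Agent.LsF.toNat_eq]; exact rfl) | exact rfl⟩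
private noncomputable def _root_.Cfsg.Agent.LsF.f53c0fb_20 : {f // @Cfsg.Agent.H856.TF.chkK = f} := ⟨_, by first | (delta Cfsg.Agent.H856.TF.chkK; rewrite [Cfsg.Agent.LsF.f53c0fb_10.2, Cfsg.Agent.LsF.f53c0fb_11.2, Cfsg.Agent.LsF.f53c0fb_19.2, Cfsg.Agent.LsF.nadd_pat, Cfsg.Agent.LsF.nmul_pat, Cfsg.Agent.LsF.ndiv_pat, Cfsg.Agent.LsF.iadd_pat, Cfsg.Agent.LsF.imul_pat, Cfsg.Agent.LsF.isub_pat, Cfsg.Agent.LsF.icast_pat, Cfsg.Agent.LsF.and_eq, Cfsg.Agent.LsF.cond_eq, Cfsg.Agent.LsF.all_eq, Cfsg.Agent.LsF.range_eq]; exact rfl) | exact rfl⟩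
private noncomputable def _root_.Cfsg.Agent.LsF.f53c0fb_21 : {f // @Cfsg.Agent.H856.F23.c13 = f} := ⟨_, by first | (delta Cfsg.Agent.H856.F23.c13; rewrite [Cfsg.Agent.LsF.imul_pat, Cfsg.Agent.LsF.isub_pat, Cfsg.Agent.LsF.imod_pat, Cfsg.Agent.LsF.ineg_pat, Cfsg.Agent.LsF.ibeq_pat, Cfsg.Agent.LsF.and_eq, Cfsg.Agent.LsF.any_eq]; exact rfl) | exact rfl⟩
private noncomputable def _root_.Cfsg.Agent.LsF.f53c0fb_22 : {f // @Cfsg.Agent.H856.TF.pre11 = f} := ⟨_, by first | (delta Cfsg.Agent.H856.TF.pre11; rewrite [Cfsg.Agent.LsF.isub_pat, Cfsg.Agent.LsF.imod_pat, Cfsg.Agent.LsF.ineg_pat, Cfsg.Agent.LsF.ibeq_pat, Cfsg.Agent.LsF.and_eq, Cfsg.Agent.LsF.any_eq]; exact rfl) | exact rfl⟩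
private noncomputable def _root_.Cfsg.Agent.LsF.f53c0fb_23 : {f // @Cfsg.Agent.H856.TF.filt = f} := ⟨_, by first | (delta Cfsg.Agent.H856.TF.filt; rewrite [Cfsg.Agent.LsF.f53c0fb_21.2, Cfsg.Agent.LsF.f53c0fb_22.2, Cfsg.Agent.LsF.imul_pat, Cfsg.Agent.LsF.icast_pat, Cfsg.Agent.LsF.and_eq, Cfsg.Agent.LsF.filter_eq, Cfsg.Agent.LsF.range_eq]; exact rfl) | exact rfl⟩
private noncomputable def _root_.Cfsg.Agent.LsF.f53c0fb_24 : {f // @Cfsg.Agent.H856.TF.oneOK = f} := ⟨_, by first | (delta Cfsg.Agent.H856.TF.oneOK; rewrite [Cfsg.Agent.LsF.f53c0fb_9.2, Cfsg.Agent.LsF.f53c0fb_20.2, Cfsg.Agent.LsF.f53c0fb_23.2, Cfsg.Agent.LsF.nmul_pat, Cfsg.Agent.LsF.ndiv_pat, Cfsg.Agent.LsF.nmod_pat, Cfsg.Agent.LsF.icast_pat, Cfsg.Agent.LsF.and_eq]; exact rfl) | exact rfl⟩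
theorem table1 : (TB.take 40).all oneOK = true := by ((try (rewrite [Cfsg.Agent.LsF.f53c0fb_24.2, Cfsg.Agent.LsF.all_eq, Cfsg.Agent.LsF.take_eq])); decide +kernel)
theorem table2 : ((TB.drop 40).take 8).all oneOK = true := by ((try (rewrite [Cfsg.Agent.LsF.f53c0fb_24.2, Cfsg.Agent.LsF.all_eq, Cfsg.Agent.LsF.take_eq, Cfsg.Agent.LsF.drop_eq])); decide +kernel)
theorem table3 : ((TB.drop 48).take 5).all oneOK = true := by ((try (rewrite [Cfsg.Agent.LsF.f53c0fb_24.2, Cfsg.Agent.LsF.all_eq, Cfsg.Agent.LsF.take_eq, Cfsg.Agent.LsF.drop_eq])); decide +kernel)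
theorem table4 : (TB.drop 53).all oneOK = true := by ((try (rewrite [Cfsg.Agent.LsF.f53c0fb_24.2, Cfsg.Agent.LsF.all_eq, Cfsg.Agent.LsF.drop_eq])); decide +kernel)

theorem tableOK : TB.all oneOK = true := by
  have e : TB = TB.take 40 ++ ((TB.drop 40).take 8 ++ ((TB.drop 48).take 5 ++ TB.drop 53)) := by rfl
  rw [e, List.all_append, List.all_append, List.all_append, table1, table2, table3, table4]
  rfl

end Cfsg.Agent.H856.TF
end

-- part: H856/TF/Enum2
section
/-!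
# `Fi₂₃`: the enumeration theorem (helper856)
-/

set_option autoImplicit false
set_option maxRecDepth 100000

namespace Cfsg.Agent.H856.TF

open Cfsg Subgroup Cfsg.Agent.Fischer.Fi23Hom Cfsg.Agent.LThreeFi23
open Cfsg.Agent.Characters.Core
open Cfsg.Spor (Fi23)
open Cfsg.Agent.H511.Ore Cfsg.Agent.H856.F23
open Cfsg.Agent.H653.Sieve Cfsg.Agent.H651.Two

/-- the residues of the degrees, outside of the table -/
def PE (f : ℕ) : Bool :=
  Nat.ble f 45747 && ((!(TB.any fun e => Nat.beq (e.1.1 * e.1.2) f)) && ([0, 1, 16].elem (f % 17) &&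
    ([0, 1, 12, 2, 11, 6, 7].elem (f % 13) && [0, 1, 10, 2, 9].elem (f % 11))))

private noncomputable def _root_.Cfsg.Agent.LsF.f53c0fb_25 : {f // @Cfsg.Agent.H653.Sieve.allPow = f} := ⟨_, by first | (delta Cfsg.Agent.H653.Sieve.allPow Nat.brecOn.go Nat.brecOn Cfsg.Agent.H653.Sieve.allPow._f; rewrite [Cfsg.Agent.LsF.nmul_pat, Cfsg.Agent.LsF.and_eq, Cfsg.Agent.LsF.cond_eq]; (try delta Cfsg.Agent.H653.Sieve.allPow.match_1); (try delta Nat.casesOn); first | dsimp -zeta only | exact rfl) | exact rfl⟩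
private noncomputable def _root_.Cfsg.Agent.LsF.f53c0fb_26 : {f // @Cfsg.Agent.H653.Sieve.allDiv = f} := ⟨_, by first | (delta Cfsg.Agent.H653.Sieve.allDiv List.brecOn List.brecOn.go Cfsg.Agent.H653.Sieve.allDiv._f; rewrite [Cfsg.Agent.LsF.f53c0fb_25.2]; (try delta Cfsg.Agent.H653.Sieve.allDiv.match_1); (try delta List.casesOn Prod.casesOn); first | dsimp -zeta only | exact rfl) | exact rfl⟩
theorem chk_divE : allDiv (45748 * 45748) (tstOn PE 0 [] [cd23]) LF 1 = true := by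
  (delta Cfsg.Agent.H511.Ore.tstOn Cfsg.Agent.H856.TF.PE; rewrite [H90F.en_fun, H90F.an_fun]; ((try (rewrite [Cfsg.Agent.LsF.f53c0fb_26.2, Cfsg.Agent.LsF.nmul_pat, Cfsg.Agent.LsF.nmod_pat, Cfsg.Agent.LsF.and_eq, Cfsg.Agent.LsF.not_eq, Cfsg.Agent.LsF.cond_eq])); decide +kernel))

theorem degOnE : DegOn Fi23 PE 45748 := by
  have := H713.Spor.Fi23.finite_fi23
  have := simp23
  exact degOn_of_check not_comm23 4089470473293004800 card_G LF (by decide +kernel) (by decide +kernel) [cd23]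
    (by decide +kernel) (fun d hd => by rw [List.mem_singleton.1 hd]; exact cd23_has) minDeg_zero noDeg_nil chk_divE

theorem mem_FL (χ : IrrCharacter Fi23) (h1 : (χ : Fi23 → ℂ) ≠ 1) {f : ℕ} (hf : (χ : Fi23 → ℂ) 1 = f) (hle : f ≤ 45747) :
    ∃ e ∈ TB, e.1.1 * e.1.2 = f := by
  have hfd : charDegree (χ : Fi23 → ℂ) = f := by
    have := Blocks.Knorr.charDegree_eq χ.2
    rw [hf] at this
    exact_mod_cast this.symm
  by_contra hcon
  refine absurd (degOnE χ h1 ?_) (by omega)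
  rw [hfd]
  obtain ⟨c, hc, h2, h3⟩ := vals17 χ
  obtain ⟨c₃, i₃, hc₃, h6, -, -⟩ := vals13 χ
  obtain ⟨c₄, i₄, hc₄, h7, -, -⟩ := vals11 χ
  have e17 := h3 f (by rw [hf]; push_cast; rfl)
  have e13 := h6 f (by rw [hf]; push_cast; rfl)
  have e11 := h7 f (by rw [hf]; push_cast; rfl)
  unfold PE
  simp only [Bool.and_eq_true]
  refine ⟨Nat.ble_eq_true_of_le hle, ?_, ?_, ?_, ?_⟩
  · rw [Bool.not_eq_true', Bool.eq_false_iff]
    intro h
    obtain ⟨e, he, h⟩ := List.any_eq_true.1 h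
    exact hcon ⟨e, he, Nat.eq_of_beq_eq_true h⟩
  · have key : f % 17 = 0 ∨ f % 17 = 1 ∨ f % 17 = 16 := by
      rcases hc with rfl | rfl | rfl <;> (clear * - e17; omega)
    rcases key with h | h | h <;> rw [h] <;> decide
  · have key : f % 13 = 0 ∨ f % 13 = 1 ∨ f % 13 = 12 ∨ f % 13 = 2 ∨ f % 13 = 11 ∨ f % 13 = 6 ∨ f % 13 = 7 := by
      fin_cases i₃
      · replace e13 : (13 : ℤ) ∣ f - c₃ * 1 := e13
        rcases hc₃ with rfl | rfl | rfl | rfl | rfl <;> (clear * - e13; omega)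
      · replace e13 : (13 : ℤ) ∣ f - c₃ * 1 := e13
        rcases hc₃ with rfl | rfl | rfl | rfl | rfl <;> (clear * - e13 hfd; omega)
      · replace e13 : (13 : ℤ) ∣ f - c₃ * 2 := e13
        rcases hc₃ with rfl | rfl | rfl | rfl | rfl <;> (clear * - e13; omega)
    rcases key with h | h | h | h | h | h | h <;> rw [h] <;> decide
  · have key : f % 11 = 0 ∨ f % 11 = 1 ∨ f % 11 = 10 ∨ f % 11 = 2 ∨ f % 11 = 9 := by
      fin_cases i₄
      · replace e11 : (11 : ℤ) ∣ f - c₄ * 1 := e11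
        rcases hc₄ with rfl | rfl | rfl | ⟨h, -⟩
        · (clear * - e11; omega)
        · (clear * - e11; omega)
        · (clear * - e11; omega)
        · exact absurd h (by decide)
      · replace e11 : (11 : ℤ) ∣ f - c₄ * 1 := e11
        rcases hc₄ with rfl | rfl | rfl | ⟨h, -⟩
        · (clear * - e11; omega)
        · (clear * - e11; omega)
        · (clear * - hfd e11; omega)
        · exact absurd h (by decide)
      · replace e11 : (11 : ℤ) ∣ f - c₄ * 2 := e11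
        rcases hc₄ with rfl | rfl | rfl | ⟨-, rfl | rfl⟩ <;> (clear * - e11; omega)
    rcases key with h | h | h | h | h <;> rw [h] <;> decide

theorem z_ne_one : el .z ≠ (1 : Fi23) := by
  intro h
  apply not_comm23
  exfalso
  have h2 := jz_cube
  rw [h, mul_one] at h2
  have hj := el_sq .j
  rw [hj, one_mul] at h2
  have h3 := jz_ne_one
  rw [h, mul_one] at h3
  exact h3 h2

/-- **The enumeration.** -/
theorem enum (χ : IrrCharacter Fi23) (h1 : (χ : Fi23 → ℂ) ≠ 1) {f : ℕ} (hf : (χ : Fi23 → ℂ) 1 = f) (hle : f ≤ 45747) :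
    ∃ A B T : ℤ, (χ : Fi23 → ℂ) (el .z) = A ∧ (χ : Fi23 → ℂ) (el .g * el .z) = B ∧
      (χ : Fi23 → ℂ) (el .j * el .z) = T ∧ ∃ e ∈ TB, e.1.1 * e.1.2 = f ∧ key e.2 A B T = true := by
  have := H713.Spor.Fi23.finite_fi23
  have := simp23
  obtain ⟨f', A, B, T, m, ⟨a1, a2, a3, a4⟩, ⟨e1, e2, e3, e4⟩, h5, h6, h7, h8, h9⟩ := vals χ
  have hff : f' = f := by
    rw [hf] at a1
    exact_mod_cast a1.symm
  subst hff
  have hS : Str f' A B T := {
    v1 := by omega
    v2 := by omega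
    s1 := by omega
    s2 := by omega
    r1 := by omega
    r2 := by omega
    b1 := by (clear * - e1 e3; omega)
    b2 := by (clear * - e1 e4; omega)
    dvd := h6
    rel := h5
    m7 := h7
    m13 := h8
    m11 := h9 }
  have hnc : ¬ ∀ a b : Fi23, a * b = b * a := fun h => not_comm23 ⟨⟨h⟩⟩
  have hne : ∀ {n : ℕ}, n = f' → ‖(A : ℂ)‖ ≠ n := by
    intro n hn h
    refine h1 (SporadicA.M11CharSimple.eq_one_of_norm_eq hnc χ.2 z_ne_one (n := n) ?_ ?_)
    · rw [hn, hf]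
    · rw [a2, h]
  have hA1 : -(f' : ℤ) < A := by
    have : -(f' : ℤ) ≤ A := by (clear * - e1 e2; omega)
    refine lt_of_le_of_ne this fun h => hne rfl ?_
    rw [← h]
    push_cast
    rw [norm_neg]
    exact Complex.norm_natCast f'
  have hA2 : A < f' := by
    have : A ≤ f' := by (clear * - e1 e2; omega)
    refine lt_of_le_of_ne this fun h => hne rfl ?_
    rw [h]
    push_cast
    exact Complex.norm_natCast f'
  refine ⟨A, B, T, a2, a3, a4, ?_⟩
  obtain ⟨⟨⟨m', J⟩, K⟩, he, hef⟩ := mem_FL χ h1 hf hle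
  refine ⟨_, he, hef, ?_⟩
  have ht' := List.all_eq_true.1 tableOK _ he
  unfold oneOK at ht'
  simp only [Bool.and_eq_true, seqN_eq] at ht'
  obtain ⟨t1, t2, t3⟩ := ht'
  have t1' := Nat.eq_of_beq_eq_true t1
  have t2' := Nat.eq_of_beq_eq_true t2
  simp only at hef t1' t2' t3
  rw [hef] at t3
  have hf0 : 0 < f' := by
    rcases Nat.eq_zero_or_pos f' with h | h
    · exfalso
      have h10 := Blocks.Basic.charDegree_pos χ.2
      have h11 := Blocks.Knorr.charDegree_eq χ.2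
      rw [hf] at h11
      have h12 : f' = charDegree (χ : Fi23 → ℂ) := by exact_mod_cast h11
      (clear * - hA1 hA2 h; omega)
    · exact h
  have hJ0 : 0 < J := by
    rcases Nat.eq_zero_or_pos J with h | h
    · rw [h, mul_zero] at hef; (clear * - hA1 hA2 hef; omega)
    · exact h
  have hm0 : 0 < m' := by
    rcases Nat.eq_zero_or_pos m' with h | h
    · rw [h, zero_mul] at hef; (clear * - hA1 hA2 hef; omega)
    · exact h
  refine key_of (by exact_mod_cast hf0) (fun A' hA' => ?_) (by rw [← hef]; push_cast; ring) (by exact_mod_cast hm0) t3 hS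
    hA1 hA2
  · obtain ⟨w, hw⟩ := Nat.dvd_of_mod_eq_zero t1'
    have hw2 : 31671 / J = w := by
      rw [hw]; exact Nat.mul_div_cancel_left w hJ0
    rw [hw2] at t2'
    have h31 : (31671 : ℤ) = J * w := by exact_mod_cast hw
    rw [h31, ← hef] at hA'
    push_cast at hA'
    have h10 : (J : ℤ) * m' ∣ J * (w * A') := by
      rw [mul_comm (J : ℤ) m']
      convert hA' using 1
      ring
    have h11 : (m' : ℤ) ∣ w * A' := (mul_dvd_mul_iff_left (by exact_mod_cast hJ0.ne')).1 h10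
    have h12 : IsCoprime (m' : ℤ) (w : ℤ) := Nat.isCoprime_iff_coprime.2 t2'
    exact h12.dvd_of_dvd_mul_left h11

end Cfsg.Agent.H856.TF
end

-- part: H856/TF/Sack
section
/-!
# `Fi₂₃`: characters with equal values at `2A` and `2B` and value `0` at `3A` (helper856)

`no_deg` : a character `φ` of `Fi₂₃` with `φ(2A) = φ(2B)` and `φ(3A) = 0` does not have the degree `n`, if the check `srch` is
true.
-/

set_option autoImplicit false
set_option maxRecDepth 100000

namespace Cfsg.Agent.H856.TF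

open Cfsg Subgroup Cfsg.Agent.Fischer.Fi23Hom Cfsg.Agent.LThreeFi23
open Cfsg.Agent.Characters.Core
open Cfsg.Spor (Fi23)
open Cfsg.Agent.H511.Ore Cfsg.Agent.H856.F23

/-- the entries `(f, T, D)` -/
abbrev E : Type := ℤ × ℤ × ℤ

/-- the table, without the character of degree 782 -/
def KS : List E := [
  (3588, 78, -376), (5083, 169, -768), (7820, 98, 408), (8568, 378, -2576), (10166, -13, -112), (12155, 923,
  -1496), (12903, 267, -2354), (12903, 2724, -4466), (15640, 547, -3012), (15640, 2437, -6400), (17952, -300,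
  2112), (24310, 91, -737), (24310, 2197, -11209), (24310, 5005, -12980), (25024, 1021, 1120), (25024, 5368,
  -6272), (25024, 7825, -11648), (25806, -384, 2816), (25806, 183, -2189), (25806, 2073, -13893), (25806,
  2640, -15664), (25806, 5097, -12749), (26520, 3354, -14016), (26520, 5811, -13540), (30107, 623, -5082),
  (30107, 1190, -9856), (30107, 3080, -5082), (30107, 6104, -11242), (30888, 351, -2816), (32130, -357, 1981),
  (32130, 189, -2387), (32130, 1281, -7931), (32130, 2100, -7196), (32130, 3738, -924), (32130, 5103, -15036),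
  (32130, 7014, -9275), (32130, 7833, -13244), (32844, 903, -8050), (32844, 5817, -3584), (35190, -378, 2375),
  (35190, -27, -628), (35190, 189, -1769), (35190, 441, 1311), (35190, 540, -5313), (35190, 792, -7280),
  (35190, 1008, -8097), (35190, 1359, -10484), (35190, 2079, 1388), (35190, 2430, -15673), (35190, 2646,
  -17204), (35190, 2898, -18401), (35190, 2997, -15860), (35190, 3249, -6004), (35190, 3816, -17521), (35190,
  4536, -18324), (35190, 4887, -11977), (35190, 5454, -5633), (35190, 5706, -11121), (35190, 5922, -13396),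
  (35190, 7344, -17169), (35190, 7911, -15764), (35190, 8163, -13748), (35190, 8379, -14817), (35190, 9801,
  -16896), (35190, 10620, -13300), (35904, 10011, -14432), (36432, 981, -8888), (36432, 9990, -16896), (37179,
  540, -4664), (37179, 2430, -5994), (38675, 4277, -15512), (41769, -546, 3584), (41769, 1911, -16128),
  (41769, 2457, -11200), (41769, 2730, -6734), (41769, 5187, -26446), (41769, 9282, -15358), (43010, 890,
  -8316), (43010, 3347, -23067), (43010, 5804, -25179), (43010, 8261, -20988), (43010, 13175, -19712), (43470,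
  378, -3045), (43470, 2289, -7588), (43470, 4746, -27300), (43470, 10479, -20909), (43758, 0, -1188), (43758,
  351, -4037), (43758, 1989, -11396), (43758, 2457, -14509), (43758, 2808, -20669), (43758, 4095, -15125),
  (43758, 4446, -10549), (43758, 5265, -23364), (43758, 6552, -3652), (43758, 6903, -16896), (43758, 7722,
  -14861), (43758, 9009, -23364), (43758, 11817, -14509), (43758, 12285, -20592), (45747, -1287, 9352),
  (45747, 351, -4090), (45747, 1170, -10360), (45747, 2808, -16256), (45747, 5265, -28378), (45747, 7722,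
  -20216), (45747, 10179, -13440)]

theorem KS_eq : (TB.flatMap fun e => e.2.map fun k => ((((e.1.1 * e.1.2 : ℕ) : ℤ), k.1, k.2) : E)) = K0 :: KS := by
  decide +kernel

/-- no combination of the trivial character and the character of degree 782 -/
def close (F T D : ℤ) : Bool :=
  !(dv 783 (F + T)) || (!(nn (F + T)) || (!(nn ((F + T) / 783 - T)) || nn (D - 1)))

/-- the search -/
def srch : ℕ → List E → ℤ → ℤ → ℤ → Bool
  | 0, _, _, _, _ => false
  | _ + 1, [], F, T, D => close F T D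
  | n + 1, k :: ks, F, T, D =>
    bif nn (F - k.1) then
      srch n ks F T D && seqI (F - k.1) fun F' => seqI (T + k.2.1) fun T' => seqI (D + k.2.2) fun D' =>
        srch n (k :: ks) F' T' D'
    else close F T D

theorem close_sound {F T D : ℤ} (h : close F T D = true) {a b : ℕ} (h1 : F = a + 782 * b) (h2 : T + a - b = 0)
    (h3 : D ≤ 0) : False := by
  unfold close at h
  have e : F + T = 783 * b := by omega
  rw [dv_of (p := 783) (x := F + T) (by rw [e]; exact ⟨b, by norm_num⟩), nn_of (x := F + T) (by omega),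
    nn_of (x := (F + T) / 783 - T) (by omega)] at h
  simp only [Bool.not_true, Bool.false_or] at h
  have := le_of_nn h
  omega

open Multiset in
theorem srch_sound : ∀ (n : ℕ) (ks : List E) (F T D : ℤ), srch n ks F T D = true → ks.Pairwise (fun x y => x.1 ≤ y.1) →
    (∀ x ∈ ks, 0 ≤ x.1) → ∀ (s : Multiset E), (∀ x ∈ s, x ∈ ks) → ∀ a b : ℕ, F = (s.map (·.1)).sum + a + 782 * b →
    T + (s.map (·.2.1)).sum + a - b = 0 → D + (s.map (·.2.2)).sum ≤ 0 → False
  | 0, ks, F, T, D, h, _, _, s, _, a, b, _, _, _ => Bool.false_ne_true h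
  | n + 1, [], F, T, D, h, _, _, s, hs, a, b, h1, h2, h3 => by
    have hs0 : s = 0 := eq_zero_of_forall_notMem fun x hx => by simpa using hs x hx
    subst hs0
    simp only [_root_.Multiset.map_zero, sum_zero] at h1 h2 h3
    exact close_sound h (a := a) (b := b) (by omega) (by omega) (by omega)
  | n + 1, k :: ks, F, T, D, h, hp, h0, s, hs, a, b, h1, h2, h3 => by
    have hp' := List.pairwise_cons.1 hp
    have hnn : ∀ t : Multiset E, (∀ x ∈ t, x ∈ k :: ks) → 0 ≤ (t.map (·.1)).sum := by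
      intro t ht
      refine sum_nonneg fun y hy => ?_
      obtain ⟨x, hx, rfl⟩ := mem_map.1 hy
      exact h0 x (ht x hx)
    rw [srch] at h
    cases hF : nn (F - k.1) with
    | false =>
      rw [hF, cond_false] at h
      have hlt : F < k.1 := by
        by_contra hcon
        rw [nn_of (by omega)] at hF
        exact Bool.false_ne_true hF.symm
      have hs0 : s = 0 := by
        refine eq_zero_of_forall_notMem fun x hx => ?_
        obtain ⟨t, rfl⟩ := exists_cons_of_mem hx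
        rw [map_cons, sum_cons] at h1
        have hx1 : k.1 ≤ x.1 := by
          rcases List.mem_cons.1 (hs x hx) with h | h
          · rw [h]
          · exact hp'.1 x h
        have := hnn t (fun y hy => hs y (mem_cons_of_mem hy))
        omega
      subst hs0
      simp only [_root_.Multiset.map_zero, sum_zero] at h1 h2 h3
      exact close_sound h (a := a) (b := b) (by omega) (by omega) (by omega)
    | true =>
      rw [hF, cond_true, Bool.and_eq_true] at h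
      simp only [seqI_eq] at h
      by_cases hk : k ∈ s
      · obtain ⟨t, rfl⟩ := exists_cons_of_mem hk
        simp only [map_cons, sum_cons] at h1 h2 h3
        exact srch_sound n (k :: ks) _ _ _ h.2 hp h0 t (fun y hy => hs y (mem_cons_of_mem hy)) a b (by omega) (by omega)
          (by omega)
      · refine srch_sound n ks _ _ _ h.1 hp'.2 (fun x hx => h0 x (List.mem_cons_of_mem _ hx)) s (fun x hx => ?_) a b h1
          h2 h3
        rcases List.mem_cons.1 (hs x hx) with h | h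
        · exact absurd (h ▸ hx) hk
        · exact h

theorem KS_sorted : KS.Pairwise (fun x y => x.1 ≤ y.1) := by
  have h : (KS.map (·.1)).Pairwise (· ≤ ·) := by
    rw [← List.isChain_iff_pairwise]
    decide +kernel
  exact List.pairwise_map.1 h

theorem KS_nonneg : ∀ x ∈ KS, 0 ≤ x.1 := by decide +kernel

/-- with the character of degree 782 in the multiset -/
theorem sound {n : ℕ} {F : ℤ} (h : srch n KS F 0 0 = true) (s : Multiset E) (hs : ∀ x ∈ s, x ∈ K0 :: KS) (a : ℕ)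
    (h1 : F = (s.map (·.1)).sum + a) (h2 : (s.map (·.2.1)).sum + a = 0) (h3 : (s.map (·.2.2)).sum ≤ 0) : False := by
  classical
  have e := Multiset.filter_add_not (fun x => x = K0) s
  have e2 : s.filter (fun x => x = K0) = Multiset.replicate (s.count K0) K0 := by
    rw [Multiset.filter_eq']
  rw [e2] at e
  rw [← e, Multiset.map_add, Multiset.sum_add, Multiset.map_replicate, Multiset.sum_replicate] at h1 h2 h3
  refine srch_sound n KS F 0 0 h KS_sorted KS_nonneg (s.filter fun x => ¬ x = K0) (fun x hx => ?_) a (s.count K0) ?_ ?_ ?_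
  · rw [Multiset.mem_filter] at hx
    rcases List.mem_cons.1 (hs x hx.1) with h | h
    · exact absurd h hx.2
    · exact h
  · rw [h1]; simp only [K0, nsmul_eq_mul]; ring
  · simp only [K0, nsmul_eq_mul] at h2 ⊢
    linarith
  · simp only [K0, nsmul_eq_mul] at h3 ⊢
    linarith

end Cfsg.Agent.H856.TF
end

-- part: H856/TF/No
section
/-!
# `Fi₂₃`: there is no character of degree 45747 (or 26520) with equal values at `2A` and `2B` and value `0` at `3A`
(helper856)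

These are the restrictions of the faithful characters of `3.Fi₂₄'` to `Fi₂₃`.
-/

set_option autoImplicit false
set_option maxRecDepth 100000

namespace Cfsg.Agent.H856.TF

open Cfsg Subgroup Cfsg.Agent.Fischer.Fi23Hom Cfsg.Agent.LThreeFi23
open Cfsg.Agent.Characters.Core
open Cfsg.Spor (Fi23)
open Cfsg.Agent.H511.Ore Cfsg.Agent.H856.F23

private noncomputable def _root_.Cfsg.Agent.LsF.f53c0fb_27 : {f // @Cfsg.Agent.H856.TF.close = f} := ⟨_, by first | (delta Cfsg.Agent.H856.TF.close; rewrite [Cfsg.Agent.LsF.f53c0fb_12.2, Cfsg.Agent.LsF.f53c0fb_11.2, Cfsg.Agent.LsF.iadd_pat, Cfsg.Agent.LsF.isub_pat, Cfsg.Agent.LsF.or_eq, Cfsg.Agent.LsF.not_eq]; exact rfl) | exact rfl⟩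
private noncomputable def _root_.Cfsg.Agent.LsF.f53c0fb_28 : {f // @Cfsg.Agent.H856.TF.srch = f} := ⟨_, by first | (delta Cfsg.Agent.H856.TF.srch Nat.brecOn.go Nat.brecOn Cfsg.Agent.H856.TF.srch._f; rewrite [Cfsg.Agent.LsF.f53c0fb_27.2, Cfsg.Agent.LsF.f53c0fb_11.2, Cfsg.Agent.LsF.f53c0fb_10.2, Cfsg.Agent.LsF.iadd_pat, Cfsg.Agent.LsF.isub_pat, Cfsg.Agent.LsF.and_eq, Cfsg.Agent.LsF.cond_eq]; (try delta Cfsg.Agent.H856.TF.srch.match_1); (try delta Nat.casesOn List.casesOn); first | dsimp -zeta only | exact rfl) | exact rfl⟩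
theorem srch45747 : srch 130 KS 45747 0 0 = true := by ((try (rewrite [Cfsg.Agent.LsF.f53c0fb_28.2])); decide +kernel)

/-- the entry of an irreducible character -/
theorem entry (χ : IrrCharacter Fi23) (h1 : (χ : Fi23 → ℂ) ≠ 1) {f : ℕ} (hf : (χ : Fi23 → ℂ) 1 = f) (hle : f ≤ 45747) :
    ∃ (k : E) (A B : ℤ), k ∈ K0 :: KS ∧ (χ : Fi23 → ℂ) 1 = k.1 ∧ (χ : Fi23 → ℂ) (el .z) = A ∧
      (χ : Fi23 → ℂ) (el .g * el .z) = B ∧ (χ : Fi23 → ℂ) (el .j * el .z) = k.2.1 ∧ k.2.2 ≤ B - A := by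
  obtain ⟨A, B, T, hA, hB, hT, e, he, hef, hk⟩ := enum χ h1 hf hle
  unfold key at hk
  obtain ⟨k, hk1, hk2⟩ := List.any_eq_true.1 hk
  rw [Bool.and_eq_true] at hk2
  have hkT : k.1 = T := by
    have := Nat.eq_of_beq_eq_true hk2.1
    omega
  refine ⟨(((e.1.1 * e.1.2 : ℕ) : ℤ), k.1, k.2), A, B, ?_, ?_, hA, hB, ?_, ?_⟩
  · rw [← KS_eq]
    exact List.mem_flatMap.2 ⟨e, he, List.mem_map.2 ⟨k, hk1, rfl⟩⟩
  · rw [hf, hef]; push_cast; rfl
  · rw [hT, hkT]
  · have := le_of_nn hk2.2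
    show k.2 ≤ B - A
    omega

theorem no_deg {n : ℕ} (hn : n ≤ 45747) (hs : srch 130 KS n 0 0 = true) {φ : Fi23 → ℂ} (h : IsCharacter Fi23 φ)
    (h1 : φ (el .z) = φ (el .g * el .z)) (h3 : φ (el .j * el .z) = 0) : φ 1 ≠ n := by
  classical
  have := H713.Spor.Fi23.finite_fi23
  intro hφ
  have : Finite (IrrCharacter Fi23) := finite_irr
  let : Fintype (IrrCharacter Fi23) := Fintype.ofFinite _
  obtain ⟨m, hm⟩ := isCharacter_iff.1 h
  set! t : IrrCharacter Fi23 := ⟨1, isIrr_one⟩ with ht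
  set! S : Finset (IrrCharacter Fi23) := Finset.univ.filter (fun ψ => ψ ≠ t ∧ m ψ ≠ 0) with hS
  have hdec : ∀ g : Fi23, φ g = ∑ ψ ∈ S, (m ψ : ℂ) * (ψ : Fi23 → ℂ) g + m t := by
    intro g
    have e1 : φ g = ∑ ψ : IrrCharacter Fi23, (m ψ : ℂ) * (ψ : Fi23 → ℂ) g := by
      conv_lhs => rw [hm]
      rw [Finset.sum_apply]
      exact Finset.sum_congr rfl fun ψ _ => by rw [Pi.smul_apply, nsmul_eq_mul]
    rw [e1, ← Finset.sum_erase_add _ _ (Finset.mem_univ t)]
    congr 1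
    · refine (Finset.sum_subset ?_ ?_).symm
      · intro ψ hψ
        rw [hS, Finset.mem_filter] at hψ
        exact Finset.mem_erase.2 ⟨hψ.2.1, Finset.mem_univ _⟩
      · intro ψ hψ hψ'
        have h0 : m ψ = 0 := by
          by_contra hcon
          exact hψ' (Finset.mem_filter.2 ⟨Finset.mem_univ _, Finset.ne_of_mem_erase hψ, hcon⟩)
        rw [h0, Nat.cast_zero, zero_mul]
    · rw [ht]; simp
  have hdeg : ∀ ψ : IrrCharacter Fi23, ∃ f : ℕ, (ψ : Fi23 → ℂ) 1 = f := fun ψ => by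
    obtain ⟨f, -, hf⟩ := isIrr_apply_one ψ.2
    exact ⟨f, hf⟩
  choose f hf using hdeg
  have hsum : ∑ ψ ∈ S, m ψ * f ψ + m t = n := by
    have h5 := hdec 1
    rw [hφ] at h5
    simp only [hf] at h5
    exact_mod_cast h5.symm
  have hle : ∀ ψ ∈ S, f ψ ≤ 45747 := by
    intro ψ hψ
    have h6 : m ψ * f ψ ≤ ∑ ψ ∈ S, m ψ * f ψ :=
      Finset.single_le_sum (f := fun ψ => m ψ * f ψ) (fun _ _ => Nat.zero_le _) hψ
    have h7 : 0 < m ψ := Nat.pos_of_ne_zero (Finset.mem_filter.1 hψ).2.2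
    have h8 : f ψ ≤ m ψ * f ψ := Nat.le_mul_of_pos_left _ h7
    omega
  have hent : ∀ ψ : IrrCharacter Fi23, ∃ (k : E) (A B : ℤ), ψ ∈ S → (k ∈ K0 :: KS ∧ (ψ : Fi23 → ℂ) 1 = k.1 ∧
      (ψ : Fi23 → ℂ) (el .z) = A ∧ (ψ : Fi23 → ℂ) (el .g * el .z) = B ∧ (ψ : Fi23 → ℂ) (el .j * el .z) = k.2.1 ∧
        k.2.2 ≤ B - A) := by
    intro ψ
    by_cases hψ : ψ ∈ S
    · have hne : (ψ : Fi23 → ℂ) ≠ 1 := fun h9 => (Finset.mem_filter.1 hψ).2.1 (Subtype.ext h9)
      obtain ⟨k, A, B, h9⟩ := entry ψ hne (hf ψ) (hle ψ hψ)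
      exact ⟨k, A, B, fun _ => h9⟩
    · exact ⟨K0, 0, 0, fun h9 => absurd h9 hψ⟩
  choose k A B hk using hent
  set! s : Multiset E := ∑ ψ ∈ S, m ψ • ({k ψ} : Multiset E) with hs'
  have hmap : ∀ F : E → ℤ, (s.map F).sum = ∑ ψ ∈ S, (m ψ : ℤ) * F (k ψ) := by
    intro F
    have e1 : (s.map F).sum = (Multiset.sumAddMonoidHom.comp (Multiset.mapAddMonoidHom F)) s := rfl
    rw [e1, hs', map_sum]
    refine Finset.sum_congr rfl fun ψ _ => ?_
    rw [map_nsmul, nsmul_eq_mul]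
    simp
  refine sound hs s ?_ (m t) ?_ ?_ ?_
  · intro x hx
    rw [hs', Multiset.mem_sum] at hx
    obtain ⟨ψ, hψ, hx⟩ := hx
    have hx2 := Multiset.mem_of_mem_nsmul hx
    rw [Multiset.mem_singleton] at hx2
    rw [hx2]
    exact (hk ψ hψ).1
  · rw [hmap]
    have h5 := hdec 1
    rw [hφ] at h5
    have h6 : ((n : ℤ) : ℂ) = ((∑ ψ ∈ S, (m ψ : ℤ) * (k ψ).1 + (m t : ℤ) : ℤ) : ℂ) := by
      push_cast
      rw [h5]
      congr 1
      exact Finset.sum_congr rfl fun ψ hψ => by rw [(hk ψ hψ).2.1]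
    exact_mod_cast h6
  · rw [hmap]
    have h5 := hdec (el .j * el .z)
    rw [h3] at h5
    have h6 : ((0 : ℤ) : ℂ) = ((∑ ψ ∈ S, (m ψ : ℤ) * (k ψ).2.1 + (m t : ℤ) : ℤ) : ℂ) := by
      push_cast
      rw [h5]
      congr 1
      exact Finset.sum_congr rfl fun ψ hψ => by rw [(hk ψ hψ).2.2.2.2.1]
    have h7 : (0 : ℤ) = ∑ ψ ∈ S, (m ψ : ℤ) * (k ψ).2.1 + (m t : ℤ) := by exact_mod_cast h6
    exact h7.symm
  · rw [hmap]
    have h5 := hdec (el .z)
    have h6 := hdec (el .g * el .z)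
    have h7 : ((∑ ψ ∈ S, (m ψ : ℤ) * A ψ : ℤ) : ℂ) = ((∑ ψ ∈ S, (m ψ : ℤ) * B ψ : ℤ) : ℂ) := by
      have e1 : ∑ ψ ∈ S, (m ψ : ℂ) * (ψ : Fi23 → ℂ) (el .z) = ∑ ψ ∈ S, (m ψ : ℂ) * (ψ : Fi23 → ℂ) (el .g * el .z) := by
        rw [h5, h6] at h1
        exact add_right_cancel h1
      push_cast
      calc ∑ ψ ∈ S, (m ψ : ℂ) * (A ψ : ℂ) = ∑ ψ ∈ S, (m ψ : ℂ) * (ψ : Fi23 → ℂ) (el .z) :=
            Finset.sum_congr rfl fun ψ hψ => by rw [(hk ψ hψ).2.2.1]
        _ = ∑ ψ ∈ S, (m ψ : ℂ) * (ψ : Fi23 → ℂ) (el .g * el .z) := e1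
        _ = ∑ ψ ∈ S, (m ψ : ℂ) * (B ψ : ℂ) := Finset.sum_congr rfl fun ψ hψ => by rw [(hk ψ hψ).2.2.2.1]
    have h8 : ∑ ψ ∈ S, (m ψ : ℤ) * A ψ = ∑ ψ ∈ S, (m ψ : ℤ) * B ψ := by exact_mod_cast h7
    calc ∑ ψ ∈ S, (m ψ : ℤ) * (k ψ).2.2 ≤ ∑ ψ ∈ S, (m ψ : ℤ) * (B ψ - A ψ) :=
          Finset.sum_le_sum fun ψ hψ => mul_le_mul_of_nonneg_left (hk ψ hψ).2.2.2.2.2 (Int.natCast_nonneg _)
      _ = 0 := by
        simp only [mul_sub, Finset.sum_sub_distrib]
        rw [h8, sub_self]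

/-- **no character of degree 45747** -/
theorem no45747 {φ : Fi23 → ℂ} (h : IsCharacter Fi23 φ) (h1 : φ (el .z) = φ (el .g * el .z))
    (h3 : φ (el .j * el .z) = 0) : φ 1 ≠ 45747 := by
  have := no_deg (n := 45747) le_rfl srch45747 h h1 h3
  exact_mod_cast this

end Cfsg.Agent.H856.TF
end

-- part: H610/TF/DegL
section
/-!
# `3.Fi24'`: the degrees of the faithful characters (helper610, for S2491, S2492)

* `DatZ.cases` : the three kinds of characters over a central character;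
* `not_both` : a character is not exceptional for the primes 29 and 23;
* `degL` : `DegL π3 64584 201825`.
-/

set_option autoImplicit false
set_option maxRecDepth 100000
set_option Elab.async false

namespace Cfsg.Agent.H610.TF

open Cfsg Subgroup Cfsg.Agent.Characters Cfsg.Agent.Characters.Core Cfsg.Agent.H113.QS Cfsg.Agent.H65.Ore
open Cfsg.Agent.H52.ThreeFi24 Cfsg.Agent.R08.TThree Cfsg.Agent.H265.TF Cfsg.Agent.H611.QF

universe u v

section Gen

variable {L : Type u} [Group L] [Finite L] {Z : Subgroup L}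

theorem cases_datZ {p e t : ℕ} (hp : p.Prime) {x : L} (hx : orderOf x = p) {θ : IrrCharacter Z}
    {NE X : Finset (IrrCharacter L)} (h : DatZ L Z p e t θ NE X) (χ : IrrCharacter L)
    (hl : Lies Z (θ : Z → ℂ) (χ : L → ℂ)) : χ ∈ NE ∨ χ ∈ X ∨ p ∣ charDegree (χ : L → ℂ) := by
  by_cases h1 : χ ∈ NE
  · exact Or.inl h1
  by_cases h2 : χ ∈ X
  · exact Or.inr (Or.inl h2)
  refine Or.inr (Or.inr ?_)
  have h3 := h.off χ hl h1 h2
  obtain ⟨k, hk⟩ := S0189.card_dvd_degree_of_vanishing (zpowers x) (χ : L → ℂ) (isIrr_isCharacter χ.2) (by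
    intro g hg hg1
    apply h3
    have h4 : orderOf g ∣ p := by
      have h5 := _root_.orderOf_dvd_natCard (⟨g, hg⟩ : zpowers x)
      rwa [Nat.card_zpowers, hx, Subgroup.orderOf_mk] at h5
    rcases (Nat.dvd_prime hp).1 h4 with h5 | h5
    · exact absurd (orderOf_eq_one_iff.1 h5) hg1
    · exact h5)
  rw [Nat.card_zpowers, hx, Blocks.Knorr.charDegree_eq χ.2] at hk
  exact ⟨k, by exact_mod_cast hk⟩

variable {K : Type v} [Group K] [Finite K] {π : L →* K}

/-- the residues of the degrees -/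
theorem residues [IsSimpleGroup K] (hK : ¬ IsMulCommutative K) (hs : Function.Surjective π) (hc : π.ker ≤ center L)
    {p : ℕ} (hp : p.Prime) {N : ℕ} (hN : Nat.card K = N) {x₀ : K} (hx : orderOf x₀ = p)
    (hcx : Nat.card (centralizer ({x₀} : Set K)) = p) (hZ : ¬ p ∣ Nat.card π.ker) (e t S : ℕ)
    (hnum : chkSC N p e t S = true) (χ : IrrCharacter L) :
    charDegree (χ : L → ℂ) % p = 0 ∨ charDegree (χ : L → ℂ) % p = 1 ∨ charDegree (χ : L → ℂ) % p = p - 1 ∨
      charDegree (χ : L → ℂ) % p = e ∨ charDegree (χ : L → ℂ) % p = p - e := by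
  obtain ⟨θ, hθ⟩ := exists_lies hc χ
  obtain ⟨NE, X, h⟩ := exists_datZ hK hs hc hp hN hx hcx hZ e t S hnum θ
  obtain ⟨x, hxo, -⟩ := exists_lift hs hp hZ hx
  rcases cases_datZ hp hxo h χ hθ with h1 | h1 | h1
  · have := h.ne_deg χ h1
    (clear * - this; solve | lia | omega)
  · have := h.x_deg χ h1
    (clear * - this; solve | lia | omega)
  · exact Or.inl (Nat.mod_eq_zero_of_dvd h1)

/-- **not exceptional for both primes** -/
theorem not_both [IsSimpleGroup K] (hK : ¬ IsMulCommutative K) (hs : Function.Surjective π) (hc : π.ker ≤ center L)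
    (hk : Nat.card π.ker = 3) {N : ℕ} (hN : Nat.card K = N) {x₀ y₀ : K} (hx : orderOf x₀ = 29)
    (hcx : Nat.card (centralizer ({x₀} : Set K)) = 29) (hy : orderOf y₀ = 23)
    (hcy : Nat.card (centralizer ({y₀} : Set K)) = 23) {S S' : ℕ} (h29 : chkSC N 29 14 2 S = true)
    (h23 : chkSC N 23 11 2 S' = true) (χ : IrrCharacter L)
    (h1 : charDegree (χ : L → ℂ) % 29 = 14 ∨ charDegree (χ : L → ℂ) % 29 = 15)
    (h2 : charDegree (χ : L → ℂ) % 23 = 11 ∨ charDegree (χ : L → ℂ) % 23 = 12) : False := by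
  have p29 : Nat.Prime 29 := by norm_num
  have p23 : Nat.Prime 23 := by norm_num
  obtain ⟨θ, hθ⟩ := exists_lies hc χ
  obtain ⟨NE, X, h⟩ := exists_datZ hK hs hc p29 hN hx hcx (by rw [hk]; norm_num) 14 2 S h29 θ
  obtain ⟨NE', X', h'⟩ := exists_datZ hK hs hc p23 hN hy hcy (by rw [hk]; norm_num) 11 2 S' h23 θ
  obtain ⟨x, hxo, -⟩ := exists_lift hs p29 (by rw [hk]; norm_num) hx
  obtain ⟨y, hyo, -⟩ := exists_lift hs p23 (by rw [hk]; norm_num) hy
  have hX : χ ∈ X := by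
    rcases cases_datZ p29 hxo h χ hθ with h3 | h3 | h3
    · have := h.ne_deg χ h3
      (clear * - h1 this; omega)
    · exact h3
    · have := Nat.mod_eq_zero_of_dvd h3
      omega
  have key : ∀ ψ : IrrCharacter L, Lies π.ker (θ : π.ker → ℂ) (ψ : L → ℂ) →
      (charDegree (ψ : L → ℂ) % 23 = 11 ∨ charDegree (ψ : L → ℂ) % 23 = 12) → ψ ∈ X' := by
    intro ψ hψ hd
    rcases cases_datZ p23 hyo h' ψ hψ with h3 | h3 | h3
    · have := h'.ne_deg ψ h3
      (clear * - hd this; solve | lia | omega)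
    · exact h3
    · have := Nat.mod_eq_zero_of_dvd h3
      omega
  obtain ⟨Θ, hΘ, hne⟩ := Finset.exists_mem_ne (s := X) (by rw [h.cardX]; norm_num) χ
  have hone : ¬ 29 ∣ orderOf (1 : L) := by rw [orderOf_one]; norm_num
  have hdeg : charDegree (Θ : L → ℂ) = charDegree (χ : L → ℂ) := by
    have h3 := h.eq_of Θ hΘ χ hX 1 hone
    rw [cast_deg, cast_deg] at h3
    exact_mod_cast h3
  have hΘ' : Θ ∈ X' := key Θ (h.lies Θ (Or.inr hΘ)) (by rw [hdeg]; exact h2)
  have hχ' : χ ∈ X' := key χ hθ h2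
  apply hne
  apply Subtype.ext
  funext g
  by_cases hg : 29 ∣ orderOf g
  · refine h'.eq_of Θ hΘ' χ hχ' g fun hg' => ?_
    -- the order of the image
    have h4 : orderOf g ∣ orderOf (π g) * 3 := by
      apply orderOf_dvd_of_pow_eq_one
      have h5 : g ^ orderOf (π g) ∈ π.ker := by rw [MonoidHom.mem_ker, map_pow, pow_orderOf_eq_one]
      have h6 : (⟨_, h5⟩ : π.ker) ^ 3 = 1 := by rw [← hk, pow_card_eq_one']
      rw [pow_mul]
      exact congrArg Subtype.val h6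
    have d29 : 29 ∣ orderOf (π g) := (Nat.Coprime.dvd_of_dvd_mul_right (by norm_num) (hg.trans h4))
    have d23 : 23 ∣ orderOf (π g) := (Nat.Coprime.dvd_of_dvd_mul_right (by norm_num) (hg'.trans h4))
    obtain ⟨k, hk'⟩ := d29
    have hk0 : k ≠ 0 := by
      rintro rfl
      have := orderOf_pos (π g)
      omega
    have h7 : orderOf ((π g) ^ k) = 29 := by
      rw [orderOf_pow' _ hk0, hk', Nat.gcd_eq_right (dvd_mul_left k 29), Nat.mul_div_cancel _ (Nat.pos_of_ne_zero hk0)]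
    obtain ⟨-, -, hall, -⟩ := setupZ hK hs hc p29 hN hx hcx (by rw [hk]; norm_num) 14 2 S h29
    have h8 := hall _ h7
    have h9 : π g ∈ centralizer ({(π g) ^ k} : Set K) := by
      rw [mem_centralizer_singleton_iff]
      exact (Commute.refl (π g)).pow_right k
    have h10 : orderOf (π g) ∣ 29 := by
      have h11 := _root_.orderOf_dvd_natCard (⟨π g, h9⟩ : centralizer ({(π g) ^ k} : Set K))
      rwa [h8, Subgroup.orderOf_mk] at h11
    have h12 : 23 ∣ 29 := d23.trans h10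
    norm_num at h12
  · exact h.eq_of Θ hΘ χ hX g hg

end Gen

/-! ### the enumeration -/

/-- the conditions on a degree -/
def tst (n : ℕ) : Bool :=
  Nat.beq (Nat.mod 3765617127571985163878400 n) 0 && Nat.beq (Nat.mod n 9) 0 &&
    (Nat.beq (Nat.mod n 23) 0 || Nat.beq (Nat.mod n 23) 1 || Nat.beq (Nat.mod n 23) 22 || Nat.beq (Nat.mod n 23) 11 ||
      Nat.beq (Nat.mod n 23) 12) && (Nat.beq (Nat.mod n 17) 0 || Nat.beq (Nat.mod n 17) 1 || Nat.beq (Nat.mod n 17) 16) &&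
    (Nat.ble (Nat.mod n 11) 3 || Nat.ble 8 (Nat.mod n 11)) &&
    (Nat.beq (Nat.mod n 13) 0 || Nat.beq (Nat.mod n 13) 3 || Nat.beq (Nat.mod n 13) 10)

def bad (n : ℕ) : Bool := !tst n || Nat.beq n 45747 || Nat.beq n 120393 || Nat.beq n 121176

/-- a loop -/
def loop (f : ℕ → Bool) : ℕ → Bool
  | 0 => true
  | n + 1 => f n && loop f n

theorem of_loop {f : ℕ → Bool} : ∀ {n : ℕ}, loop f n = true → ∀ k < n, f k = true
  | 0, _, k, hk => absurd hk (Nat.not_lt_zero k)
  | n + 1, h, k, hk => by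
    rw [loop, Bool.and_eq_true] at h
    rcases Nat.lt_succ_iff_lt_or_eq.1 hk with h1 | h1
    · exact of_loop h.2 k h1
    · rw [h1]; exact h.1

private noncomputable def _root_.Cfsg.Agent.LsF.f53c0fb_29 : {f // @Cfsg.Agent.H610.TF.loop = f} := ⟨_, by first | (delta Cfsg.Agent.H610.TF.loop Nat.brecOn.go Nat.brecOn Cfsg.Agent.H610.TF.loop._f; rewrite [Cfsg.Agent.LsF.and_eq]; (try delta Cfsg.Agent.H610.TF.loop.match_1); (try delta Nat.casesOn); first | dsimp -zeta only | exact rfl) | exact rfl⟩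
private noncomputable def _root_.Cfsg.Agent.LsF.f53c0fb_30 : {f // @Cfsg.Agent.H610.TF.tst = f} := ⟨_, by first | (delta Cfsg.Agent.H610.TF.tst; rewrite [Cfsg.Agent.LsF.and_eq, Cfsg.Agent.LsF.or_eq]; exact rfl) | exact rfl⟩
private noncomputable def _root_.Cfsg.Agent.LsF.f53c0fb_31 : {f // @Cfsg.Agent.H610.TF.bad = f} := ⟨_, by first | (delta Cfsg.Agent.H610.TF.bad; rewrite [Cfsg.Agent.LsF.f53c0fb_30.2, Cfsg.Agent.LsF.or_eq, Cfsg.Agent.LsF.not_eq]; exact rfl) | exact rfl⟩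
theorem loopX : loop (fun k => bad (29 * k + 14) && bad (29 * k + 15)) 6959 = true := by ((try (rewrite [Cfsg.Agent.LsF.f53c0fb_29.2, Cfsg.Agent.LsF.f53c0fb_31.2, Cfsg.Agent.LsF.nadd_pat, Cfsg.Agent.LsF.nmul_pat, Cfsg.Agent.LsF.and_eq])); decide +kernel)
theorem loopN : loop (fun k => !tst (29 * k + 1) && !tst (29 * k + 28)) 2227 = true := by ((try (rewrite [Cfsg.Agent.LsF.f53c0fb_29.2, Cfsg.Agent.LsF.f53c0fb_30.2, Cfsg.Agent.LsF.nadd_pat, Cfsg.Agent.LsF.nmul_pat, Cfsg.Agent.LsF.and_eq, Cfsg.Agent.LsF.not_eq])); decide +kernel)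

theorem tst_of {n : ℕ} (h1 : n ∣ 3765617127571985163878400) (h2 : 9 ∣ n)
    (h3 : n % 23 = 0 ∨ n % 23 = 1 ∨ n % 23 = 22 ∨ n % 23 = 11 ∨ n % 23 = 12) (h4 : n % 17 = 0 ∨ n % 17 = 1 ∨ n % 17 = 16)
    (h5 : n % 11 = 0 ∨ n % 11 = 1 ∨ n % 11 = 2 ∨ n % 11 = 3 ∨ n % 11 = 8 ∨ n % 11 = 9 ∨ n % 11 = 10)
    (h6 : n % 13 = 0 ∨ n % 13 = 3 ∨ n % 13 = 10) : tst n = true := by
  have e1 : Nat.mod 3765617127571985163878400 n = 0 := Nat.mod_eq_zero_of_dvd h1
  have e2 : Nat.mod n 9 = 0 := Nat.mod_eq_zero_of_dvd h2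
  unfold tst
  rw [e1, e2]
  change (true && true && (Nat.beq (n % 23) 0 || Nat.beq (n % 23) 1 || Nat.beq (n % 23) 22 || Nat.beq (n % 23) 11 ||
      Nat.beq (n % 23) 12) && (Nat.beq (n % 17) 0 || Nat.beq (n % 17) 1 || Nat.beq (n % 17) 16) &&
    (Nat.ble (n % 11) 3 || Nat.ble 8 (n % 11)) &&
    (Nat.beq (n % 13) 0 || Nat.beq (n % 13) 3 || Nat.beq (n % 13) 10)) = true
  have f1 : (Nat.beq (n % 23) 0 || Nat.beq (n % 23) 1 || Nat.beq (n % 23) 22 || Nat.beq (n % 23) 11 ||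
      Nat.beq (n % 23) 12) = true := by
    rcases h3 with h | h | h | h | h <;> rw [h] <;> rfl
  have f2 : (Nat.beq (n % 17) 0 || Nat.beq (n % 17) 1 || Nat.beq (n % 17) 16) = true := by
    rcases h4 with h | h | h <;> rw [h] <;> rfl
  have f3 : (Nat.ble (n % 11) 3 || Nat.ble 8 (n % 11)) = true := by
    rcases h5 with h | h | h | h | h | h | h <;> rw [h] <;> rfl
  have f4 : (Nat.beq (n % 13) 0 || Nat.beq (n % 13) 3 || Nat.beq (n % 13) 10) = true := by
    rcases h6 with h | h | h <;> rw [h] <;> rfl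
  rw [f1, f2, f3, f4]
  rfl

theorem perm23 {n : ℕ} (h : n % 23 = 0 ∨ n % 23 = 1 ∨ n % 23 = 23 - 1 ∨ n % 23 = 11 ∨ n % 23 = 23 - 11) :
    n % 23 = 0 ∨ n % 23 = 1 ∨ n % 23 = 22 ∨ n % 23 = 11 ∨ n % 23 = 12 := by omega

theorem perm17 {n : ℕ} (h : n % 17 = 0 ∨ n % 17 = 1 ∨ n % 17 = 17 - 1 ∨ n % 17 = 16 ∨ n % 17 = 17 - 16) :
    n % 17 = 0 ∨ n % 17 = 1 ∨ n % 17 = 16 := by (solve | lia | omega)

theorem card_L3 : Nat.card L3 = 3765617127571985163878400 := by
  have h1 := Subgroup.card_eq_card_quotient_mul_card_subgroup π3.ker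
  rw [Nat.card_congr (QuotientGroup.quotientKerEquivOfSurjective π3 hs3).toEquiv, card_ker_L3,
    Cfsg.Agent.R08.FiTwentyFour.card_commutator] at h1
  rw [h1]

theorem tst_deg (χ : IrrCharacter L3) (hχ : ∃ z ∈ π3.ker, (χ : L3 → ℂ) z ≠ (χ : L3 → ℂ) 1) :
    tst (charDegree (χ : L3 → ℂ)) = true := by
  have : Finite P3 := card_P3.1
  have : Finite L3 := inferInstanceAs (Finite ↥(_root_.commutator P3))
  have := H48.OreFi.finite'
  have : IsSimpleGroup Spor.Fi24' := R08.FiTwentyFour.isFi24'.1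
  obtain ⟨x, hx, hcx⟩ := H161.Rec.FiTF.cent17
  obtain ⟨y, hy, hcy⟩ := H161.Rec.FiTF.cent23
  have r17 := residues H48.OreFi.not_comm hs3 hc3 (p := 17) (by norm_num) Cfsg.Agent.R08.FiTwentyFour.card_commutator
    hx hcx (by rw [card_ker_L3]; norm_num) 16 1 1000000 (by decide +kernel) χ
  have r23 := residues H48.OreFi.not_comm hs3 hc3 (p := 23) (by norm_num) Cfsg.Agent.R08.FiTwentyFour.card_commutator
    hy hcy (by rw [card_ker_L3]; norm_num) 11 2 1000000 (by decide +kernel) χ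
  obtain ⟨r11, r13⟩ := H133.QS.R13L.res χ hχ
  refine tst_of ?_ (nine_dvd χ hχ) (perm23 r23) (perm17 r17) r11 r13
  rw [← card_L3]
  exact Blocks.Knorr.charDegree_dvd χ.2

/-- **the degrees of the faithful characters of `3.Fi24'`** -/
theorem degL : DegL π3 64584 201825 := by
  have : Finite P3 := card_P3.1
  have : Finite L3 := inferInstanceAs (Finite ↥(_root_.commutator P3))
  have := H48.OreFi.finite'
  have : IsSimpleGroup Spor.Fi24' := R08.FiTwentyFour.isFi24'.1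
  refine ⟨fun χ hχ h => ?_, fun χ hχ h => ?_⟩
  · by_contra hlt
    push Not at hlt
    have ht := tst_deg χ hχ
    generalize charDegree (χ : L3 → ℂ) = n at *
    have h1 := of_loop loopN (n / 29) (by omega)
    rw [Bool.and_eq_true, Bool.not_eq_true', Bool.not_eq_true'] at h1
    rcases h with h | h
    · rw [show 29 * (n / 29) + 1 = n by omega, ht] at h1
      exact Bool.noConfusion h1.1
    · rw [show 29 * (n / 29) + 28 = n by omega, ht] at h1
      exact Bool.noConfusion h1.2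
  · by_contra hlt
    push Not at hlt
    have ht := tst_deg χ hχ
    have h45 := H133.QS.ResFi.ne_45747 (fun φ h1 h2 h3 => H856.TF.no45747 h1 h2 h3) χ hχ
    obtain ⟨x, -, hx, hC, -⟩ := H30.IMFi24.exists_x
    obtain ⟨y, hy, hcy⟩ := H161.Rec.FiTF.cent23
    have hnb := not_both H48.OreFi.not_comm hs3 hc3 card_ker_L3 Cfsg.Agent.R08.FiTwentyFour.card_commutator hx hC hy hcy
      (S := 141) (S' := 1000000) (by decide +kernel) (by decide +kernel) χ h
    generalize charDegree (χ : L3 → ℂ) = n at *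
    have h1 := of_loop loopX (n / 29) (by (clear * - h hlt; omega))
    rw [Bool.and_eq_true] at h1
    have hb : bad n = true := by
      rcases h with h | h
      · rw [show 29 * (n / 29) + 14 = n by omega] at h1
        exact h1.1
      · rw [show 29 * (n / 29) + 15 = n by omega] at h1
        exact h1.2
    unfold bad at hb
    rw [ht, Bool.not_true, Bool.false_or, Bool.or_eq_true, Bool.or_eq_true] at hb
    rcases hb with (hb | hb) | hb
    · exact h45 (Nat.eq_of_beq_eq_true hb)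
    · have := Nat.eq_of_beq_eq_true hb
      exact hnb (by omega)
    · have := Nat.eq_of_beq_eq_true hb
      exact hnb (by omega)

end Cfsg.Agent.H610.TF
end

private theorem dce_19bdf04b2354 : _root_.True := by
  try have : _root_.True := by simp only [_root_.Cfsg.Agent.H856.TF.K0.eq_1]
  try have : _root_.True := by simp only [_root_.Cfsg.Agent.H856.TF.innr.eq_1]
  try have : _root_.True := by simp only [_root_.Cfsg.Agent.H856.TF.srch.eq_3]
  try have : _root_.True := by simp only [_root_.Cfsg.Agent.H610.TF.loop.eq_def]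
  try have : _root_.True := by simp only [_root_.Cfsg.Agent.H610.TF.loop.eq_2]
  try have : _root_.True := by simp only [_root_.Cfsg.Agent.H856.TF.srch.eq_def]
  try have : _root_.True := by simp only [_root_.Cfsg.Agent.H856.TF.srch.eq_1]
  try have : _root_.True := by simp only [_root_.Cfsg.Agent.H856.TF.srch.eq_2]
  try have : _root_.True := by simp only [_root_.Cfsg.Agent.H610.TF.loop.eq_1]
  exact _root_.True.intro
end

-- part: H611/QF/RowFin
section
prune_inst 0xc000222400000000000400004000028103000100000300014144000c0480840300008620b00002001100a0240038000811100029001000002084060041180080088064803200001100000600a809190c00200000000000000000000000000000014010000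
set_option linter.all false
open scoped Cfsg.Agent.FastGrp

-- part: H611/QF/FrameB
section
/-!
# `3.Fi24'`: the frame with an arbitrary set of bad elements of order 3 (helper611, for S2491, S2492)

* `casesBad`, `cases3`.
-/

set_option autoImplicit false
set_option maxRecDepth 100000

namespace Cfsg.Agent.H611.QF

open Cfsg Subgroup
open Cfsg.Spor (Fi24)

/-- **the case split with an arbitrary set of bad elements of order 3** -/
theorem casesBad {P Bad : Spor.Fi24' → Prop} {T : ℕ} (hT : 1814400 ≤ T)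
    (hS : ∀ g : Spor.Fi24', Nat.card (centralizer ({g} : Set Spor.Fi24')) ≤ T → P g)
    (R2 : ∀ (g : Spor.Fi24') (n : ℕ), g ^ 2 ^ n = 1 → P g) (R6 : ∀ g : Spor.Fi24', g ^ 3 = 1 → P g)
    (R7 : ∀ g : Spor.Fi24', orderOf g = 9 → Nat.card (centralizer ({g} : Set Spor.Fi24')) ≤ T)
    (R5 : ∀ z s : Spor.Fi24', z ≠ 1 → z * z = 1 → orderOf s = 3 → Commute z s → ¬ Bad s →
      Nat.card (centralizer ({z} : Set Spor.Fi24') ⊓ centralizer ({s} : Set Spor.Fi24') : Subgroup Spor.Fi24') ≤ T)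
    (R4 : ∀ (s t : Spor.Fi24') (n : ℕ), orderOf s = 3 → Bad s → t ^ 2 ^ n = 1 → Commute s t →
      P (s * t)) (g : Spor.Fi24') : P g := by
  have := Cfsg.Agent.H48.OreFi.finite'
  have hn : orderOf g ≠ 0 := (orderOf_pos g).ne'
  by_cases hr : ∃ r, r.Prime ∧ 5 ≤ r ∧ r ∣ orderOf g
  · obtain ⟨r, hr, h5, k, hk⟩ := hr
    have hk0 : k ≠ 0 := by
      rintro rfl
      exact hn (by rw [hk, mul_zero])
    refine hS g ((Cfsg.Agent.H48.OreFi.cent_pow_le g k).trans
      ((Cfsg.Agent.H48.OreFi.big_prime hr h5 ?_).trans hT))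
    rw [orderOf_pow' g hk0, hk, Nat.gcd_eq_right (dvd_mul_left k r), Nat.mul_div_cancel _ (Nat.pos_of_ne_zero hk0)]
  push Not at hr
  by_cases h9 : 9 ∣ orderOf g
  · obtain ⟨k, hk⟩ := h9
    have hk0 : k ≠ 0 := by
      rintro rfl
      exact hn (by rw [hk, mul_zero])
    refine hS g ((Cfsg.Agent.H48.OreFi.cent_pow_le g k).trans (R7 _ ?_))
    rw [orderOf_pow' g hk0, hk, Nat.gcd_eq_right (dvd_mul_left k 9), Nat.mul_div_cancel _ (Nat.pos_of_ne_zero hk0)]
  rcases Cfsg.Agent.H48.OreFi.two_three' hn hr with ⟨a, ha⟩ | h | ⟨b, hb, hk⟩ | h6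
  · exact R2 g a (by rw [← ha, pow_orderOf_eq_one])
  · exact R6 g (by rw [← h, pow_orderOf_eq_one])
  · exact absurd (by rw [hk]; exact pow_dvd_pow 3 hb) h9
  -- the order is `3 * 2 ^ a`
  obtain ⟨a, m, hm, hnm⟩ := Nat.exists_eq_pow_mul_and_not_dvd hn 2 (by norm_num)
  have h3m : 3 ∣ m := by
    have h1 : 3 ∣ 2 ^ a * m := by rw [← hnm]; exact (by norm_num : 3 ∣ 6).trans h6
    exact (Nat.Coprime.dvd_mul_left (Nat.Coprime.pow_right a (by norm_num))).1 h1
  have hm3 : m = 3 := by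
    obtain ⟨q, rfl⟩ := h3m
    have hq : q = 1 := by
      by_contra hq1
      obtain ⟨r, hrp, hrq⟩ := Nat.exists_prime_and_dvd hq1
      have hrn : r ∣ orderOf g := by rw [hnm]; exact (hrq.trans (dvd_mul_left q 3)).trans (dvd_mul_left _ _)
      have hr5 : r < 5 := by
        by_contra hcon
        exact hr r hrp (by omega) hrn
      have h23 : r = 2 ∨ r = 3 := by
        have := hrp.two_le
        interval_cases r
        · left; rfl
        · right; rfl
        · exact absurd hrp (by norm_num)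
      rcases h23 with rfl | rfl
      · exact hm (hrq.trans (dvd_mul_left q 3))
      · apply h9
        rw [hnm]
        obtain ⟨c, rfl⟩ := hrq
        exact ⟨2 ^ a * c, by ring⟩
    rw [hq]
  rw [hm3] at hnm
  -- the parts
  have ha1 : 1 ≤ a := by
    by_contra h0
    have h1 : a = 0 := by omega
    rw [h1] at hnm
    rw [hnm] at h6
    omega
  obtain ⟨u, hu⟩ : ∃ u : ℕ, 2 ^ a * u ≡ 1 [MOD 3] := by
    have h1 : Nat.Coprime (2 ^ a) 3 := Nat.Coprime.pow_left a (by norm_num)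
    obtain ⟨u, -, hu⟩ := Nat.exists_mul_mod_eq_one_of_coprime h1 (by norm_num)
    exact ⟨u, by rw [Nat.ModEq, hu]⟩
  have hu3 : ¬ 3 ∣ u := by
    intro h
    have h1 : 2 ^ a * u ≡ 0 [MOD 3] := (Nat.modEq_zero_iff_dvd).2 (h.mul_left _)
    have h2 := h1.symm.trans hu
    exact absurd h2 (by decide)
  set s := g ^ (2 ^ a * u) with hs
  have hs3 : s ^ 3 = 1 := by
    rw [hs, ← pow_mul, show 2 ^ a * u * 3 = (2 ^ a * 3) * u by ring, pow_mul, ← hnm, pow_orderOf_eq_one, one_pow]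
  have hs1 : s ≠ 1 := by
    intro h
    have h1 : orderOf g ∣ 2 ^ a * u := orderOf_dvd_of_pow_eq_one h
    rw [hnm] at h1
    exact hu3 (Nat.dvd_of_mul_dvd_mul_left (by positivity) h1)
  have hso : orderOf s = 3 := by
    have : Fact (Nat.Prime 3) := ⟨Nat.prime_three⟩
    exact orderOf_eq_prime hs3 hs1
  have hcs : Commute s g := by rw [hs]; exact (Commute.refl g).pow_left _
  by_cases hc : Bad s
  · have ht : (s⁻¹ * g) ^ 2 ^ a = 1 := by
      rw [hcs.inv_left.mul_pow, inv_pow, hs, ← pow_mul]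
      have h1 : g ^ (2 ^ a * u * 2 ^ a) = g ^ 2 ^ a := by
        rw [pow_eq_pow_iff_modEq, hnm]
        have h2 : 2 ^ a * (2 ^ a * u) ≡ 2 ^ a * 1 [MOD 2 ^ a * 3] := hu.mul_left' _
        rw [mul_one] at h2
        rwa [show 2 ^ a * u * 2 ^ a = 2 ^ a * (2 ^ a * u) by ring]
      rw [h1, inv_mul_cancel]
    have h2 := R4 s (s⁻¹ * g) a hso hc ht ((Commute.refl s).inv_right.mul_right hcs)
    rwa [mul_inv_cancel_left] at h2
  · have hzo : orderOf (g ^ (3 * 2 ^ (a - 1))) = 2 := by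
      have h2 : orderOf g = 2 * (3 * 2 ^ (a - 1)) := by
        rw [hnm]
        obtain ⟨b, rfl⟩ : ∃ b, a = b + 1 := ⟨a - 1, by omega⟩
        rw [Nat.add_sub_cancel]
        ring
      have h3 : 3 * 2 ^ (a - 1) ≠ 0 := by positivity
      rw [orderOf_pow' g h3, Nat.gcd_eq_right ⟨2, by rw [h2]; ring⟩, h2, Nat.mul_div_cancel _ (Nat.pos_of_ne_zero h3)]
    refine hS g (le_trans (Subgroup.card_le_of_le (K := centralizer ({g ^ (3 * 2 ^ (a - 1))} : Set Spor.Fi24') ⊓
        centralizer ({s} : Set Spor.Fi24')) ?_) (R5 (g ^ (3 * 2 ^ (a - 1))) s ?_ ?_ hso ?_ hc))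
    · intro y hy
      rw [mem_centralizer_singleton_iff] at hy
      refine ⟨mem_centralizer_singleton_iff.2 (Commute.pow_right (show Commute y g from hy) _).eq,
        mem_centralizer_singleton_iff.2 ?_⟩
      rw [hs]
      exact (Commute.pow_right (show Commute y g from hy) _).eq
    · intro h
      rw [h, orderOf_one] at hzo
      omega
    · have h2 := pow_orderOf_eq_one (g ^ (3 * 2 ^ (a - 1)))
      rwa [hzo, pow_two] at h2
    · exact (hcs.pow_right _).symm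

/-- the classes `3A`, `3C` are bad -/
theorem cases3 {P : Spor.Fi24' → Prop} {T : ℕ} (hT : 1814400 ≤ T)
    (hS : ∀ g : Spor.Fi24', Nat.card (centralizer ({g} : Set Spor.Fi24')) ≤ T → P g)
    (R2 : ∀ (g : Spor.Fi24') (n : ℕ), g ^ 2 ^ n = 1 → P g) (R6 : ∀ g : Spor.Fi24', g ^ 3 = 1 → P g)
    (R7 : ∀ g : Spor.Fi24', orderOf g = 9 → Nat.card (centralizer ({g} : Set Spor.Fi24')) ≤ T)
    (R5 : ∀ z s : Spor.Fi24', z ≠ 1 → z * z = 1 → orderOf s = 3 → Commute z s → ¬ Cls 0 s → ¬ Cls 1 s →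
      Nat.card (centralizer ({z} : Set Spor.Fi24') ⊓ centralizer ({s} : Set Spor.Fi24') : Subgroup Spor.Fi24') ≤ T)
    (R4 : ∀ (s t : Spor.Fi24') (n : ℕ), orderOf s = 3 → (Cls 0 s ∨ Cls 1 s) → t ^ 2 ^ n = 1 → Commute s t →
      P (s * t)) (g : Spor.Fi24') : P g :=
  casesBad (Bad := fun s => Cls 0 s ∨ Cls 1 s) hT hS R2 R6 R7
    (fun z s h1 h2 h3 h4 h => R5 z s h1 h2 h3 h4 (fun h' => h (Or.inl h')) fun h' => h (Or.inr h')) R4 g

end Cfsg.Agent.H611.QF
end

-- part: H597/R7/OrbK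
section
/-!
# `Fi24`: the orbits of the even centralizer of `y` and `h` on the transpositions commuting with `y`, kernel checks (helper597)

Four words of even length which commute with `y = l k b c e f` and `h`; their orbits on the 159 points outside the line
of `h` have lengths 27, 24, 54, 54.
-/

set_option autoImplicit false
set_option maxRecDepth 100000
set_option Elab.async false

namespace Cfsg.Agent.H597.R7.OrbK

open Cfsg Cfsg.Agent.Lib.PermNet Cfsg.Agent.Lib.PermNetPt Cfsg.Agent.Fischer.Fi24RepDef Cfsg.Agent.Fischer.Fi24Rep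
open Cfsg.Agent.Fischer.Fi24RepOrb (UG)
open Cfsg.Agent.KFacts.FiTF.FixMask
open Cfsg.Agent.H840.Wd Cfsg.Agent.H838.W24
open Cfsg.Agent.H597.R7.LineBK (yw)
open Cfsg.Spor (Fi24)
open Cfsg.Spor.Fi24 (Gen)

/-- generator 0 -/
def g0 : List Gen :=
  [.l, .k]

/-- generator 1 -/
def g1 : List Gen :=
  [.b, .c]

/-- generator 2 -/
def g2 : List Gen :=
  [.d, .h, .e, .d, .c, .b, .a, .k, .l, .k, .a, .b, .c, .d, .e, .h, .d, .l, .k, .b, .c, .e, .f, .d, .h, .e, .d, .c,
  .b, .a, .k, .l, .k, .a, .b, .c, .d, .e, .h, .d, .f, .e, .c, .b, .k, .l]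

/-- generator 3 -/
def g3 : List Gen :=
  [.d, .h, .c, .d, .b, .c, .a, .b, .k, .a, .l, .k, .l, .k, .l, .a, .k, .b, .a, .c, .b, .d, .c, .h, .d, .g, .f, .e,
  .d, .h, .i, .c, .d, .h, .j, .g, .f, .e, .d, .c, .a, .b, .k, .a, .l, .k, .l, .k, .l, .a, .k, .b, .a, .c, .d, .e,
  .f, .g, .j, .h, .d, .c, .i, .h, .d, .e, .f, .g]

/-- the generators -/
def GW : List (List Gen) := [g0, g1, g2, g3]

/-- orbit 0 : root 23, length 27 -/
def es0 : List (ℕ × ℕ × ℕ) := [
  (543, 3, 23), (207174, 2, 543), (206054, 0, 207174), (292699, 1, 207174), (208016, 2, 207174), (207367, 3, 207174),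
  (206981, 0, 206054), (206937, 1, 206054), (207984, 1, 292699), (206716, 3, 292699), (207958, 0, 208016),
  (206975, 1, 208016), (206682, 1, 206981), (495, 2, 206981), (208054, 1, 206937), (555, 2, 206937), (53, 2, 207984),
  (207011, 3, 207984), (505, 2, 206716), (292733, 1, 207958), (206016, 1, 206975), (207393, 1, 206682),
  (207200, 2, 206682), (136, 3, 505), (57, 2, 207200), (156, 3, 57)]

/-- orbit 1 : root 160, length 24 -/
def es1 : List (ℕ × ℕ × ℕ) := [
  (33763, 2, 160), (176, 3, 160), (303888, 0, 33763), (33569, 1, 33763), (34311, 2, 33763), (33779, 3, 33763),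
  (33749, 0, 303888), (34327, 1, 303888), (303872, 3, 303888), (266486, 1, 33569), (33585, 3, 33569),
  (266448, 0, 34311), (34353, 1, 34311), (266432, 1, 33749), (3255, 2, 33749), (33733, 3, 33749), (34337, 1, 34327),
  (3253, 2, 266486), (266470, 3, 266486), (33543, 1, 266448), (33559, 1, 266432), (3239, 3, 3255), (3237, 3, 3253)]

/-- orbit 2 : root 25347, length 54 -/
def es2 : List (ℕ × ℕ × ℕ) := [
  (26017, 1, 25347), (257431, 2, 25347), (26241, 3, 25347), (26247, 1, 26017), (294318, 2, 26017), (26023, 3, 26017),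
  (255379, 0, 257431), (294218, 2, 257431), (261683, 3, 257431), (294239, 2, 26241), (25349, 3, 26247),
  (294269, 0, 294318), (254515, 2, 294318), (244489, 3, 294318), (257877, 3, 255379), (244986, 3, 294218),
  (28103, 2, 261683), (294284, 0, 294239), (294248, 1, 294239), (255415, 2, 294239), (243708, 3, 294239),
  (257459, 2, 25349), (243678, 3, 294269), (259765, 3, 254515), (241674, 2, 257877), (256007, 2, 244986),
  (27013, 1, 28103), (243182, 2, 28103), (26165, 3, 28103), (244523, 3, 294284), (244952, 3, 294248),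
  (257905, 3, 255415), (254487, 0, 257459), (261655, 3, 257459), (26163, 2, 243678), (243852, 1, 241674),
  (27885, 2, 241674), (243148, 3, 241674), (257383, 0, 256007), (26133, 2, 256007), (257347, 3, 256007),
  (27287, 3, 27013), (241704, 3, 243182), (257445, 2, 244523), (259729, 3, 254487), (28097, 3, 26163),
  (243886, 3, 243852), (26131, 3, 27885), (257409, 0, 257383), (256035, 3, 257383), (27281, 1, 26133),
  (27883, 3, 26133), (27011, 2, 259729)]

/-- orbit 3 : root 25363, length 54 -/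
def es3 : List (ℕ × ℕ × ℕ) := [
  (26033, 1, 25363), (257415, 2, 25363), (26257, 3, 25363), (26263, 1, 26033), (294334, 2, 26033), (26039, 3, 26033),
  (255363, 0, 257415), (294234, 2, 257415), (261667, 3, 257415), (294223, 2, 26257), (25365, 3, 26263),
  (294253, 0, 294334), (254499, 2, 294334), (244505, 3, 294334), (257861, 3, 255363), (244970, 3, 294234),
  (28119, 2, 261667), (294300, 0, 294223), (294264, 1, 294223), (255399, 2, 294223), (243692, 3, 294223),
  (257443, 2, 25365), (243662, 3, 294253), (259749, 3, 254499), (241690, 2, 257861), (256023, 2, 244970),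
  (27029, 1, 28119), (243198, 2, 28119), (26149, 3, 28119), (244539, 3, 294300), (244936, 3, 294264),
  (257889, 3, 255399), (254471, 0, 257443), (261639, 3, 257443), (26147, 2, 243662), (243868, 1, 241690),
  (27901, 2, 241690), (243164, 3, 241690), (257399, 0, 256023), (26117, 2, 256023), (257363, 3, 256023),
  (27271, 3, 27029), (241720, 3, 243198), (257461, 2, 244539), (259713, 3, 254471), (28113, 3, 26147),
  (243902, 3, 243868), (26115, 3, 27901), (257425, 0, 257399), (256051, 3, 257399), (27265, 1, 26117),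
  (27899, 3, 26117), (27027, 2, 259713)]

/-- the points of a tree -/
def pt (r : ℕ) (es : List (ℕ × ℕ × ℕ)) : List ℕ := r :: es.map fun e => e.1

set_option maxRecDepth 100000 in
private theorem pn_all_0 :
    (eqB (g0 ++ yw) (yw ++ g0) = true) ∧
    (chkPt (nw g0 false) 4 4 = true) ∧
    (eqB (g1 ++ yw) (yw ++ g1) = true) ∧
    (chkPt (nw g1 false) 4 4 = true) ∧
    (eqB (g2 ++ yw) (yw ++ g2) = true) ∧
    (chkPt (nw g2 false) 4 4 = true) ∧
    (eqB (g3 ++ yw) (yw ++ g3) = true) ∧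
    (chkPt (nw g3 false) 4 4 = true) ∧
    (treeB (GW.map fun w => nw w false) es0 [23] = true) ∧
    (treeB (GW.map fun w => nw w false) es1 [160] = true) ∧
    (treeB (GW.map fun w => nw w false) es2 [25347] = true) ∧
    (treeB (GW.map fun w => nw w false) es3 [25363] = true) := by
  (rewrite [show @Cfsg.Agent.H838.W24.treeB = delta% @Cfsg.Agent.H838.W24.treeB from by delta Cfsg.Agent.H838.W24.treeB; rfl, show @Cfsg.Agent.Lib.PermNetPt.chkPt = delta% @Cfsg.Agent.Lib.PermNetPt.chkPt from by delta Cfsg.Agent.Lib.PermNetPt.chkPt; rfl, show @Cfsg.Agent.H840.Wd.eqB = delta% @Cfsg.Agent.H840.Wd.eqB from by delta Cfsg.Agent.H840.Wd.eqB; rfl, show @Cfsg.Agent.H840.Wd.eqL = delta% @Cfsg.Agent.H840.Wd.eqL from by delta Cfsg.Agent.H840.Wd.eqL; rfl, show @Cfsg.Agent.H840.Wd.eqL._f = delta% @Cfsg.Agent.H840.Wd.eqL._f from by delta Cfsg.Agent.H840.Wd.eqL._f; rfl, Cfsg.Agent.Lib.PermNetFast.winv_fast]; decide +kernel)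

theorem comm0 : eqB (g0 ++ yw) (yw ++ g0) = true :=
  pn_all_0.1
theorem fix0 : chkPt (nw g0 false) 4 4 = true :=
  pn_all_0.2.1
theorem comm1 : eqB (g1 ++ yw) (yw ++ g1) = true :=
  pn_all_0.2.2.1
theorem fix1 : chkPt (nw g1 false) 4 4 = true :=
  pn_all_0.2.2.2.1
theorem comm2 : eqB (g2 ++ yw) (yw ++ g2) = true :=
  pn_all_0.2.2.2.2.1
theorem fix2 : chkPt (nw g2 false) 4 4 = true :=
  pn_all_0.2.2.2.2.2.1
theorem comm3 : eqB (g3 ++ yw) (yw ++ g3) = true :=
  pn_all_0.2.2.2.2.2.2.1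
theorem fix3 : chkPt (nw g3 false) 4 4 = true :=
  pn_all_0.2.2.2.2.2.2.2.1
theorem tree0 : treeB (GW.map fun w => nw w false) es0 [23] = true :=
  pn_all_0.2.2.2.2.2.2.2.2.1
theorem nd0 : (pt 23 es0).Nodup ∧ 16 ≤ (pt 23 es0).length := by decide +kernel
theorem tree1 : treeB (GW.map fun w => nw w false) es1 [160] = true :=
  pn_all_0.2.2.2.2.2.2.2.2.2.1
theorem nd1 : (pt 160 es1).Nodup ∧ 16 ≤ (pt 160 es1).length := by decide +kernel
theorem tree2 : treeB (GW.map fun w => nw w false) es2 [25347] = true :=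
  pn_all_0.2.2.2.2.2.2.2.2.2.2.1
theorem nd2 : (pt 25347 es2).Nodup ∧ 16 ≤ (pt 25347 es2).length := by decide +kernel
theorem tree3 : treeB (GW.map fun w => nw w false) es3 [25363] = true :=
  pn_all_0.2.2.2.2.2.2.2.2.2.2.2
theorem nd3 : (pt 25363 es3).Nodup ∧ 16 ≤ (pt 25363 es3).length := by decide +kernel

theorem cover : ∀ p ∈ pts bT0 bE0, p = 4 ∨ p = 3235 ∨ p = 3251 ∨ p ∈ pt 23 es0 ∨ p ∈ pt 160 es1 ∨
    p ∈ pt 25347 es2 ∨ p ∈ pt 25363 es3 := by
  decide +kernel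

end Cfsg.Agent.H597.R7.OrbK
end

-- part: H597/R7/LineB
section
/-!
# `Fi24`: no cube root of `y = X 3` preserves two lines of transpositions commuting with `y` (helper597)

`L0 = {h, x1, h x1 h}`, `c = h b1`; `lineB` : if `g ^ 3 = y`, then `g` does not preserve `L0` and `c L0 c⁻¹`.
-/

set_option autoImplicit false
set_option maxRecDepth 100000

namespace Cfsg.Agent.H597.R7.LineB

open Cfsg Cfsg.Agent.Lib.PermNet Cfsg.Agent.Lib.PermNetPt Cfsg.Agent.Fischer.Fi24RepDef Cfsg.Agent.Fischer.Fi24Rep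
open Cfsg.Agent.Fischer.Fi24Spider (word_append word_cons word_nil)
open Cfsg.Agent.R08.FiTwentyFour (L)
open Cfsg.Agent.KFacts.FiTF.Pts Cfsg.Agent.KFacts.FiTF.FixMask
open Cfsg.Agent.KFacts.FiTF.Defs (tr)
open Cfsg.Agent.H840.Wd Cfsg.Agent.H597.R7.LineBK
open Cfsg.Spor (Fi24)
open Cfsg.Spor.Fi24 (Gen)

/-! ### Two involutions generating `S₃` -/

section

variable {F : Type*} [Group F]

theorem comm_of_line {g a b : F} (h9 : g ^ 9 = 1) (ha : a * a = 1) (hb : b * b = 1) (hbr : a * b * a = b * a * b)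
    (hne : a ≠ b) (h1 : g * a * g⁻¹ = a ∨ g * a * g⁻¹ = b ∨ g * a * g⁻¹ = a * b * a)
    (h2 : g * b * g⁻¹ = a ∨ g * b * g⁻¹ = b ∨ g * b * g⁻¹ = a * b * a) : Commute g (a * b) := by
  have hab3 : (a * b) * (a * b) * (a * b) = 1 := by
    calc (a * b) * (a * b) * (a * b) = (a * b * a) * (b * a * b) := by group
      _ = (a * b * a) * (a * b * a) := by rw [hbr]
      _ = a * b * (a * a) * b * a := by group
      _ = a * (b * b) * a := by rw [ha]; group
      _ = 1 := by rw [hb, mul_one, ha]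
  have hba : b * a = (a * b)⁻¹ := by
    rw [mul_inv_rev, inv_eq_of_mul_eq_one_left ha, inv_eq_of_mul_eq_one_left hb]
  have hconj : g * (a * b) * g⁻¹ = (g * a * g⁻¹) * (g * b * g⁻¹) := by group
  have hneg : g * a * g⁻¹ ≠ g * b * g⁻¹ := fun h => hne (mul_left_cancel (mul_right_cancel h))
  have key : g * (a * b) * g⁻¹ = a * b ∨ g * (a * b) * g⁻¹ = (a * b)⁻¹ := by
    rw [hconj]
    rcases h1 with h1 | h1 | h1 <;> rcases h2 with h2 | h2 | h2
    · exact absurd (h1.trans h2.symm) hneg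
    · left; rw [h1, h2]
    · right; rw [h1, h2, ← hba]
      calc a * (a * b * a) = (a * a) * b * a := by group
        _ = b * a := by rw [ha, one_mul]
    · right; rw [h1, h2, hba]
    · exact absurd (h1.trans h2.symm) hneg
    · left; rw [h1, h2, hbr]
      calc b * (b * a * b) = (b * b) * a * b := by group
        _ = a * b := by rw [hb, one_mul]
    · left; rw [h1, h2]
      calc a * b * a * a = a * b * (a * a) := by group
        _ = a * b := by rw [ha, mul_one]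
    · right; rw [h1, h2, hbr, ← hba]
      calc b * a * b * b = b * a * (b * b) := by group
        _ = b * a := by rw [hb, mul_one]
    · exact absurd (h1.trans h2.symm) hneg
  have hsq : Commute (g ^ 2) (a * b) := by
    show g ^ 2 * (a * b) = a * b * g ^ 2
    rcases key with h | h
    · have h' : Commute g (a * b) := mul_inv_eq_iff_eq_mul.1 h
      exact (h'.pow_left 2).eq
    · have e1 : g * (a * b) = (a * b)⁻¹ * g := mul_inv_eq_iff_eq_mul.1 h
      have e2 : g * (a * b)⁻¹ = (a * b) * g := by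
        have : g * (a * b)⁻¹ * g⁻¹ = (g * (a * b) * g⁻¹)⁻¹ := by group
        rw [h, inv_inv] at this
        exact mul_inv_eq_iff_eq_mul.1 this
      rw [pow_two, mul_assoc, e1, ← mul_assoc, e2, mul_assoc]
  have h10 : g = (g ^ 2) ^ 5 := by
    rw [← pow_mul, show 2 * 5 = 9 + 1 from rfl, pow_succ, h9, one_mul]
  rw [h10]
  exact hsq.pow_left 5

end

/-! ### The elements -/

/-- `y = X 3` -/
noncomputable def y : Fi24 := word yw

theorem X3_eq : Cfsg.Agent.H842.ThreeCl.X 3 = y := rfl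

noncomputable def x1 : Fi24 := tr ux .l
noncomputable def b1 : Fi24 := tr ub .l
noncomputable def t1 : Fi24 := tr ut .l

theorem isPt_x1 : IsPt x1 3235 := isPt_tr pt_x
theorem isPt_b1 : IsPt b1 241704 := isPt_tr pt_b
theorem isPt_t1 : IsPt t1 291721 := isPt_tr pt_t

theorem y_cube : y ^ 3 = 1 := by
  have h := eq_of_eqB y3
  rw [word_append, word_append, word_nil] at h
  rw [pow_succ, pow_two, mul_assoc]
  exact h

theorem y_nine : ∀ {g : Fi24}, g ^ 3 = y → g ^ 9 = 1 := by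
  intro g h
  rw [show 9 = 3 * 3 from rfl, pow_mul, h, y_cube]

theorem yt_pt : IsPt (y * t1 * y⁻¹) 291801 := by
  have h := isPt_t1.conj y
  rwa [show rho y 291721 = 291801 from rho_of_chkPt y_t] at h

theorem not_comm_t : ¬ Commute t1 (y * t1 * y⁻¹) := by
  intro h
  have h1 := (yt_pt.comm_iff t1).1 h
  have h2 : rho t1 291801 = 305301 := rho_of_chkPt t_y
  rw [h2] at h1
  exact absurd h1 (by norm_num)

/-- the product of the members of the two lines -/
theorem ident_eq : y * (gen .h * x1)⁻¹ * ((gen .h * b1) * (gen .h * x1) * (gen .h * b1)⁻¹) = t1 * (y * t1 * y⁻¹) := by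
  have hrev : word yw.reverse = y⁻¹ := Cfsg.Agent.R08.TIso.word_reverse yw
  have hh : word [.h] = gen .h := word_single _
  have hhi : (gen .h : Fi24)⁻¹ = gen .h := inv_eq_of_mul_eq_one_left (Cfsg.Agent.R08.FiTwentyFour.sq (Cfsg.Agent.R08.FiTwentyFour.gen_mem_L .h))
  have hxi : (x1 : Fi24)⁻¹ = x1 := inv_eq_of_mul_eq_one_left (Cfsg.Agent.R08.FiTwentyFour.sq isPt_x1.mem)
  have hbi : (b1 : Fi24)⁻¹ = b1 := inv_eq_of_mul_eq_one_left (Cfsg.Agent.R08.FiTwentyFour.sq isPt_b1.mem)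
  have h := eq_of_eqB ident
  simp only [word_append, hrev, hh] at h
  rw [mul_inv_rev, mul_inv_rev, hhi, hxi, hbi]
  have h' : y * (x1 * gen .h * (gen .h * b1 * (gen .h * x1 * (b1 * gen .h)))) = t1 * (y * (t1 * y⁻¹)) := h
  have h2 : t1 * (y * (t1 * y⁻¹)) = t1 * (y * t1 * y⁻¹) := by rw [mul_assoc y t1]
  rw [← h2, ← h']
  simp only [mul_assoc]

/-- the line of `h` -/
def L0 : Set Fi24 := {d | d = gen .h ∨ d = x1 ∨ d = gen .h * x1 * gen .h}

theorem braid_h : gen .h * x1 * gen .h = x1 * gen .h * x1 ∧ (gen .h : Fi24) ≠ x1 := by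
  have hn : ¬ Commute (gen .h) x1 := by
    intro h
    have h1 := (isPt_x1.comm_iff (gen .h)).1 h
    have h2 : rho (gen .h) 3235 = 3251 := by
      have := rho_of_chkPt h_x
      rwa [word_single] at this
    rw [h2] at h1
    exact absurd h1 (by norm_num)
  constructor
  · rcases Cfsg.Agent.R08.FiTwentyFour.three (Cfsg.Agent.R08.FiTwentyFour.gen_mem_L .h) isPt_x1.mem with h | h
    · exact absurd h hn
    · exact h
  · intro h
    rw [h] at hn
    exact hn (Commute.refl _)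

/-- **no cube root of `y` preserves `L0` and its image under `c = h b1`** -/
theorem lineB {g : Fi24} (h3 : g ^ 3 = y) (h1 : g * gen .h * g⁻¹ ∈ L0) (h2 : g * x1 * g⁻¹ ∈ L0)
    (h1' : ((gen .h * b1)⁻¹ * g * (gen .h * b1)) * gen .h * ((gen .h * b1)⁻¹ * g * (gen .h * b1))⁻¹ ∈ L0)
    (h2' : ((gen .h * b1)⁻¹ * g * (gen .h * b1)) * x1 * ((gen .h * b1)⁻¹ * g * (gen .h * b1))⁻¹ ∈ L0) : False := by
  have hfin : Finite Fi24 := Cfsg.Agent.R08.FiTwentyFour.finite_Fi24
  have hh := Cfsg.Agent.R08.FiTwentyFour.sq (Cfsg.Agent.R08.FiTwentyFour.gen_mem_L .h)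
  have hx := Cfsg.Agent.R08.FiTwentyFour.sq isPt_x1.mem
  obtain ⟨hbr, hne⟩ := braid_h
  have h9 := y_nine h3
  have c0 : Commute g (gen .h * x1) := comm_of_line h9 hh hx hbr hne h1 h2
  have h9' : ((gen .h * b1)⁻¹ * g * (gen .h * b1)) ^ 9 = 1 := by
    have e : ((gen .h * b1)⁻¹ * g * (gen .h * b1)) ^ 9 = (gen .h * b1)⁻¹ * g ^ 9 * (gen .h * b1) := by
      have := conj_pow (i := 9) (a := (gen .h * b1)⁻¹) (b := g)
      rwa [inv_inv] at this
    rw [e, h9]
    group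
  have c1' : Commute ((gen .h * b1)⁻¹ * g * (gen .h * b1)) (gen .h * x1) := comm_of_line h9' hh hx hbr hne h1' h2'
  have c1 : Commute g ((gen .h * b1) * (gen .h * x1) * (gen .h * b1)⁻¹) := by
    generalize gen .h * b1 = c at c1' ⊢
    generalize gen .h * x1 = v at c1' ⊢
    show g * (c * v * c⁻¹) = c * v * c⁻¹ * g
    calc g * (c * v * c⁻¹) = c * ((c⁻¹ * g * c) * v) * c⁻¹ := by group
      _ = c * (v * (c⁻¹ * g * c)) * c⁻¹ := by rw [c1'.eq]
      _ = _ := by group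
  have cy : Commute g y := by rw [← h3]; exact (Commute.refl g).pow_right 3
  have c2 : Commute g (t1 * (y * t1 * y⁻¹)) := by
    rw [← ident_eq]
    exact (cy.mul_right c0.inv_right).mul_right c1
  have c3 := Cfsg.Agent.H48.OreFi.NineA.cube_comm Cfsg.Agent.H49.Four.TEight.fgroup24 isPt_t1.mem yt_pt.mem not_comm_t c2
  rw [h3] at c3
  have h5 : y * t1 * y⁻¹ = t1 := mul_inv_eq_iff_eq_mul.2 c3.eq
  apply not_comm_t
  rw [h5]

end Cfsg.Agent.H597.R7.LineB
end

-- part: H597/R7/OrbA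
section
/-!
# `Fi24'`: the elements of order 9 whose cube is conjugate to `X 3` (helper597)

* `count` : a set of distinct conjugates bounds the index of the centralizer;
* `card_cent_y` : `|C_{Fi24'}(y)| ≤ 153055008`;
* `moved` : if `g` moves `h` out of its line, `16 |C(g)| ≤ |C(g ^ 3)|`;
* `bound_y` : `g ^ 3 = y` implies `|C_{Fi24'}(g)| ≤ 9565938`;
* `boxB` : the bound for every `g` whose cube is conjugate to `X 3` or its inverse.
-/

set_option autoImplicit false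
set_option maxRecDepth 100000

universe u

namespace Cfsg.Agent.H597.R7.OrbA

open Subgroup
open Cfsg Cfsg.Agent.Lib.PermNet Cfsg.Agent.Lib.PermNetPt Cfsg.Agent.Fischer.Fi24RepDef Cfsg.Agent.Fischer.Fi24Rep
open Cfsg.Agent.Fischer.Fi24Spider (word_append word_cons word_nil)
open Cfsg.Agent.R08.FiTwentyFour (L)
open Cfsg.Agent.KFacts.FiTF.Pts Cfsg.Agent.KFacts.FiTF.FixMask
open Cfsg.Agent.KFacts.FiTF.Defs (tr)
open Cfsg.Agent.H840.Wd Cfsg.Agent.H838.W24 Cfsg.Agent.H597.R7.LineBK Cfsg.Agent.H597.R7.LineB Cfsg.Agent.H597.R7.OrbK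
open Cfsg.Agent.H48.OreFi.NineA (two_mul_card_le card_N width_of)
open Cfsg.Agent.H48.OreFi.Nine (cj coe_cj card_cent_equiv card_cent_inv)
open Cfsg.Spor (Fi24)
open Cfsg.Spor.Fi24 (Gen)

/-! ### Counting conjugates -/

theorem count {G : Type u} [Group G] [Finite G] {A B : Subgroup G} {g : G} (hA : ∀ a ∈ A, a * g = g * a) (hAB : A ≤ B)
    {n : ℕ} (f : Fin n → G) (hf : ∀ i, f i ∈ B) (hinj : ∀ i j, f i * g * (f i)⁻¹ = f j * g * (f j)⁻¹ → i = j) :
    n * Nat.card A ≤ Nat.card B := by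
  have h1 : Nat.card (Fin n × A) = n * Nat.card A := by
    rw [Nat.card_prod, Nat.card_eq_fintype_card, Fintype.card_fin]
  rw [← h1]
  refine Nat.card_le_card_of_injective (fun p => (⟨f p.1 * (p.2 : G), mul_mem (hf p.1) (hAB p.2.2)⟩ : B)) ?_
  rintro ⟨i, a⟩ ⟨j, b⟩ h
  have h2 : f i * (a : G) = f j * (b : G) := congrArg Subtype.val h
  have key : ∀ (c : G) (d : A), f = f → (c * (d : G)) * g * (c * (d : G))⁻¹ = c * g * c⁻¹ := by
    intro c d _
    rw [mul_assoc c (d : G) g, hA _ d.2]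
    group
  have h3 : i = j := by
    apply hinj
    rw [← key (f i) a rfl, ← key (f j) b rfl, h2]
  subst h3
  have h4 : a = b := Subtype.ext (mul_left_cancel h2)
  rw [h4]

/-! ### The orbits -/

theorem treeW_spec {W : List (List Gen)} {K : Subgroup Fi24} (hK : ∀ w ∈ W, word w ∈ K) {p0 : ℕ}
    {es : List (ℕ × ℕ × ℕ)} {vis : List ℕ} (h : treeB (W.map fun w => nw w false) es vis = true)
    (hv : ∀ q ∈ vis, ∃ c ∈ K, rho c q = p0) : ∀ e ∈ es, ∃ c ∈ K, rho c e.1 = p0 := by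
  induction es generalizing vis with
  | nil => intro e he; exact absurd he (by simp)
  | cons a es ih =>
    have h' : (Bool.rec false (Bool.rec false (treeB (W.map fun w => nw w false) es (a.1 :: vis)) (memB a.2.2 vis))
      (Nat.beq (winv ((W.map fun w => nw w false).getD a.2.1 []) a.1) a.2.2) : Bool) = true := h
    cases h1 : Nat.beq (winv ((W.map fun w => nw w false).getD a.2.1 []) a.1) a.2.2
    · rw [h1] at h'
      exact absurd h' (by simp)
    · rw [h1] at h'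
      cases h2 : memB a.2.2 vis
      · rw [h2] at h'
        exact absurd h' (by simp)
      · rw [h2] at h'
        obtain ⟨c, hc, hc1⟩ := hv _ (memB_spec h2)
        have h3 : winv ((W.map fun w => nw w false).getD a.2.1 []) a.1 = a.2.2 := Nat.eq_of_beq_eq_true h1
        have ha : ∃ c ∈ K, rho c a.1 = p0 := by
          by_cases hk : a.2.1 < W.length
          · have h4 : (W.map fun w => nw w false).getD a.2.1 [] = nw W[a.2.1] false := by
              rw [List.getD_eq_getElem _ _ (by rw [List.length_map]; exact hk), List.getElem_map]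
            rw [h4, winv_eq (wok _ _), ← rho_word] at h3
            have h5 : word W[a.2.1] ∈ K := hK _ (List.getElem_mem hk)
            refine ⟨c * (word W[a.2.1])⁻¹, K.mul_mem hc (K.inv_mem h5), ?_⟩
            rw [map_mul, Equiv.Perm.mul_apply, map_inv]
            have h6 : (rho (word W[a.2.1]))⁻¹ a.1 = a.2.2 := h3
            rw [h6, hc1]
          · have h4 : (W.map fun w => nw w false).getD a.2.1 [] = [] := by
              rw [List.getD_eq_default _ _ (by rw [List.length_map]; omega)]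
            rw [h4] at h3
            have h5 : a.1 = a.2.2 := h3
            exact ⟨c, hc, by rw [h5]; exact hc1⟩
        intro e he
        rcases List.mem_cons.1 he with rfl | he
        · exact ha
        · refine ih h' ?_ e he
          intro q hq
          rcases List.mem_cons.1 hq with rfl | hq
          · exact ha
          · exact hv q hq

/-- the even elements commuting with `y` and `h` -/
noncomputable def K0 : Subgroup Fi24 := Cw y [gen .h] ⊓ commutator Fi24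

theorem isPt_h : IsPt (gen .h) 4 := isPt_gen .h

theorem sgn_word_even : ∀ {w : List Gen}, w.length % 2 = 0 → Cfsg.Agent.Fischer.Fi24Final.sgn (word w) = 1
  | [], _ => by rw [word_nil, map_one]
  | [a], h => absurd h (by simp)
  | a :: b :: w, h => by
    rw [word_cons, word_cons, map_mul, map_mul]
    have ha : Cfsg.Agent.Fischer.Fi24Final.sgn (gen a) = -1 := Cfsg.Agent.Fischer.Fi24Final.sgn_gen a
    have hb : Cfsg.Agent.Fischer.Fi24Final.sgn (gen b) = -1 := Cfsg.Agent.Fischer.Fi24Final.sgn_gen b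
    rw [ha, hb, sgn_word_even (w := w) (by simp only [List.length_cons] at h; omega)]
    decide

theorem mem_K0 {w : List Gen} (h1 : eqB (w ++ yw) (yw ++ w) = true) (h2 : chkPt (nw w false) 4 4 = true)
    (h3 : w.length % 2 = 0) : word w ∈ K0 := by
  refine ⟨⟨?_, ?_⟩, Cfsg.Agent.R08.FiTwentyFour.mem_commutator_iff.2 (sgn_word_even h3)⟩
  · have h := eq_of_eqB h1
    rwa [word_append, word_append] at h
  · intro s hs
    rw [List.mem_singleton] at hs
    rw [hs, isPt_h.comm_iff]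
    exact rho_of_chkPt h2

theorem gw_mem : ∀ w ∈ GW, word w ∈ K0 := by
  intro w hw
  simp only [GW, List.mem_cons, List.not_mem_nil, or_false] at hw
  rcases hw with rfl | rfl | rfl | rfl
  · exact mem_K0 comm0 fix0 (by decide)
  · exact mem_K0 comm1 fix1 (by decide)
  · exact mem_K0 comm2 fix2 (by decide)
  · exact mem_K0 comm3 fix3 (by decide)

theorem orb_of {r : ℕ} {es : List (ℕ × ℕ × ℕ)} (h : treeB (GW.map fun w => nw w false) es [r] = true) {p q : ℕ}
    (hp : p ∈ pt r es) (hq : q ∈ pt r es) : ∃ c ∈ K0, rho c p = q := by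
  have key : ∀ p ∈ pt r es, ∃ c ∈ K0, rho c p = r := by
    intro p hp
    rcases List.mem_cons.1 hp with rfl | hp
    · exact ⟨1, one_mem _, by rw [map_one]; rfl⟩
    · obtain ⟨e, he, rfl⟩ := List.mem_map.1 hp
      refine treeW_spec gw_mem h ?_ e he
      intro q hq
      rw [List.mem_singleton] at hq
      exact ⟨1, one_mem _, by rw [map_one, hq]; rfl⟩
  obtain ⟨a, ha, ha'⟩ := key p hp
  obtain ⟨b, hb, hb'⟩ := key q hq
  refine ⟨b⁻¹ * a, K0.mul_mem (K0.inv_mem hb) ha, ?_⟩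
  rw [map_mul, Equiv.Perm.mul_apply, ha', map_inv, Equiv.Perm.inv_eq_iff_eq]
  exact hb'.symm

theorem exists_orb {p : ℕ} (hp : p ∈ pts bT0 bE0) : p = 4 ∨ p = 3235 ∨ p = 3251 ∨
    ∃ l : List ℕ, l.Nodup ∧ 16 ≤ l.length ∧ ∀ q ∈ l, ∃ c ∈ K0, rho c p = q := by
  rcases cover p hp with h | h | h | h | h | h | h
  · exact Or.inl h
  · exact Or.inr (Or.inl h)
  · exact Or.inr (Or.inr (Or.inl h))
  · exact Or.inr (Or.inr (Or.inr ⟨_, nd0.1, nd0.2, fun q hq => orb_of tree0 h hq⟩))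
  · exact Or.inr (Or.inr (Or.inr ⟨_, nd1.1, nd1.2, fun q hq => orb_of tree1 h hq⟩))
  · exact Or.inr (Or.inr (Or.inr ⟨_, nd2.1, nd2.2, fun q hq => orb_of tree2 h hq⟩))
  · exact Or.inr (Or.inr (Or.inr ⟨_, nd3.1, nd3.2, fun q hq => orb_of tree3 h hq⟩))

/-! ### The centralizer of `y` -/

theorem card_cent_y {s : Spor.Fi24'} (hs : (s : Fi24) = y) :
    Nat.card (centralizer ({s} : Set Spor.Fi24')) ≤ 153055008 := by
  have hfin : Finite Fi24 := Cfsg.Agent.R08.FiTwentyFour.finite_Fi24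
  have hs3 : (s : Fi24) ^ 3 = 1 := by rw [hs]; exact y_cube
  have hs1 : (s : Fi24) ≠ 1 := by rw [hs, ← X3_eq]; exact Cfsg.Agent.H842.ThreeMain.X_ne 3
  have ho3 : orderOf (s : Fi24) = 3 := orderOf_eq_prime hs3 hs1
  have hcard : Nat.card (zpowers (s : Fi24)) = 3 := by rw [Nat.card_zpowers, ho3]
  have hw : Cfsg.commutingWidth (L ∩ (Subgroup.centralizer ((zpowers (s : Fi24) : Subgroup Fi24) : Set Fi24) : Set Fi24)) =
      2 := by
    have h := width_of (s := (s : Fi24)) (y := 1) (i := 3) (Or.inl (by rw [one_mul, inv_one, mul_one, hs, X3_eq]))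
    rw [h]
    rfl
  have hN := card_N (Cfsg.Agent.H832.WTwo.Main.main Cfsg.Agent.H49.Four.TEight.fgroup24 Cfsg.Agent.H49.Four.TEight.isT8
    (zpowers (s : Fi24)) hcard hw)
  obtain ⟨t₁, t₂, hP⟩ := Cfsg.Agent.H832.WTwo.Uniq.exists_pair hw
  have c1 : Commute (s : Fi24) t₁ := hP.cx _ (mem_zpowers _)
  let N : Subgroup Fi24 := normalizer ((zpowers (s : Fi24) : Subgroup Fi24) : Set Fi24)
  let C : Subgroup Fi24 := centralizer ({(s : Fi24)} : Set Fi24)
  let C' : Subgroup Fi24 := C ⊓ commutator Fi24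
  have hsgn : Cfsg.Agent.Fischer.Fi24Final.sgn t₁ = -1 := Cfsg.Agent.R08.FiTwentyFour.sgn_L hP.hx
  have l1 : 2 * Nat.card C ≤ Nat.card N := by
    obtain ⟨j, -, hjj, hj⟩ := Cfsg.Agent.H49.Four.ThreeInv.three_inv24 hs3
    have hmem : ∀ x : Fi24, x ∈ N ↔ x * (s : Fi24) * x⁻¹ = s ∨ x * (s : Fi24) * x⁻¹ = (s : Fi24)⁻¹ := fun x =>
      Cfsg.Agent.H841.Tri.mem_norm_zp hs3 hs1
    have hji : ∀ j : Fi24, j * j = 1 → j⁻¹ = j := fun j h => inv_eq_of_mul_eq_one_left h
    refine two_mul_card_le (x := j) ?_ ((hmem j).2 (Or.inr ?_)) ?_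
    · intro x hx
      exact (hmem x).2 (Or.inl (mul_inv_eq_iff_eq_mul.2 (mem_centralizer_singleton_iff.1 hx)))
    · rw [hji j hjj, hj]
    · intro h
      have h1 : j * (s : Fi24) = s * j := mem_centralizer_singleton_iff.1 h
      have h2 : (s : Fi24) = (s : Fi24)⁻¹ := by
        rw [← hj, h1, mul_assoc, hjj, mul_one]
      have h3 : (s : Fi24) * s = 1 := by
        nth_rewrite 2 [h2]
        exact mul_inv_cancel _
      apply hs1
      rw [pow_succ, pow_two, h3, one_mul] at hs3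
      exact hs3
  have l2 : 2 * Nat.card C' ≤ Nat.card C := by
    refine two_mul_card_le inf_le_left (x := t₁) (mem_centralizer_singleton_iff.2 c1.symm) ?_
    rintro ⟨-, h⟩
    have h' := Cfsg.Agent.R08.FiTwentyFour.mem_commutator_iff.1 h
    rw [hsgn] at h'
    exact absurd h' (by decide)
  have l4 : Nat.card (centralizer ({s} : Set Spor.Fi24')) ≤ Nat.card C' := by
    have e1 : Nat.card (centralizer ({s} : Set Spor.Fi24')) =
        Nat.card ((centralizer ({s} : Set Spor.Fi24')).map (commutator Fi24).subtype) :=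
      Nat.card_congr ((centralizer ({s} : Set Spor.Fi24')).equivMapOfInjective _
        (Subgroup.subtype_injective _)).toEquiv
    rw [e1]
    apply Subgroup.card_le_of_le
    rintro _ ⟨x, hx, rfl⟩
    refine ⟨?_, x.2⟩
    have hx' : x * s = s * x := mem_centralizer_singleton_iff.1 hx
    exact mem_centralizer_singleton_iff.2 (congrArg Subtype.val hx')
  have hN' : Nat.card N = 612220032 := hN
  omega

/-! ### The bound -/

theorem moved {g : Spor.Fi24'} (h3 : (g : Fi24) ^ 3 = y) (hm : (g : Fi24) * gen .h * (g : Fi24)⁻¹ ∉ L0) :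
    16 * Nat.card (centralizer ({g} : Set Spor.Fi24')) ≤ Nat.card (centralizer ({g ^ 3} : Set Spor.Fi24')) := by
  have hfin : Finite Fi24 := Cfsg.Agent.R08.FiTwentyFour.finite_Fi24
  have hcy : Commute y (g : Fi24) := by rw [← h3]; exact (Commute.refl _).pow_left 3
  have hch : Commute y (gen .h : Fi24) := (isPt_h.comm_iff y).2 (rho_of_chkPt y_h)
  have he : Commute y ((g : Fi24) * gen .h * (g : Fi24)⁻¹) := (hcy.mul_right hch).mul_right hcy.inv_right
  have hL : (g : Fi24) * gen .h * (g : Fi24)⁻¹ ∈ L := Cfsg.Agent.R08.FiTwentyFour.conj_mem_L isPt_h.mem _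
  obtain ⟨p, hp⟩ := exists_pt hL
  have hps : p ∈ pts bT0 bE0 := ps_zero b_sieve _ ⟨hL, he.eq, by simp⟩ p hp
  rcases exists_orb hps with h | h | h | ⟨l, hnd, hlen, hl⟩
  · exfalso
    apply hm
    rw [h] at hp
    exact Or.inl (hp.inj isPt_h)
  · exfalso
    apply hm
    rw [h] at hp
    exact Or.inr (Or.inl (hp.inj isPt_x1))
  · exfalso
    apply hm
    rw [h] at hp
    refine Or.inr (Or.inr ?_)
    have hx : rho (gen .h) 3235 = 3251 := by
      have := rho_of_chkPt h_x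
      rwa [word_single] at this
    have h1 : IsPt (gen .h * x1 * (gen .h)⁻¹) 3251 := isPt_x1.conj' hx
    have hhi : (gen .h : Fi24)⁻¹ = gen .h :=
      inv_eq_of_mul_eq_one_left (Cfsg.Agent.R08.FiTwentyFour.sq (Cfsg.Agent.R08.FiTwentyFour.gen_mem_L .h))
    rw [hhi] at h1
    exact hp.inj h1
  · have hc : ∀ i : Fin l.length, ∃ c : Spor.Fi24', (c : Fi24) * y = y * c ∧ (c : Fi24) * gen .h = gen .h * c ∧
        rho (c : Fi24) p = l.get i := by
      intro i
      obtain ⟨c, ⟨⟨h1, h2⟩, h4⟩, h5⟩ := hl _ (List.get_mem l i)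
      exact ⟨⟨c, h4⟩, h1, h2 _ (List.mem_singleton.2 rfl), h5⟩
    choose f hf1 hf2 hf3 using hc
    refine le_trans (Nat.mul_le_mul_right _ hlen) (count (g := g) ?_ ?_ f ?_ ?_)
    · intro a ha
      exact mem_centralizer_singleton_iff.1 ha
    · intro a ha
      have h1 : Commute a g := mem_centralizer_singleton_iff.1 ha
      exact mem_centralizer_singleton_iff.2 (h1.pow_right 3).eq
    · intro i
      refine mem_centralizer_singleton_iff.2 (Subtype.ext ?_)
      show (f i : Fi24) * (g : Fi24) ^ 3 = (g : Fi24) ^ 3 * (f i : Fi24)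
      rw [h3]
      exact hf1 i
    · intro i j hij
      have key : ∀ i, IsPt (((f i * g * (f i)⁻¹ : Spor.Fi24') : Fi24) * gen .h *
          ((f i * g * (f i)⁻¹ : Spor.Fi24') : Fi24)⁻¹) (l.get i) := by
        intro i
        have h1 := hp.conj' (hf3 i)
        have h2 : ((f i * g * (f i)⁻¹ : Spor.Fi24') : Fi24) * gen .h * ((f i * g * (f i)⁻¹ : Spor.Fi24') : Fi24)⁻¹ =
            (f i : Fi24) * ((g : Fi24) * gen .h * (g : Fi24)⁻¹) * (f i : Fi24)⁻¹ := by
          show (f i : Fi24) * (g : Fi24) * (f i : Fi24)⁻¹ * gen .h * ((f i : Fi24) * (g : Fi24) * (f i : Fi24)⁻¹)⁻¹ = _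
          have h5 : (f i : Fi24)⁻¹ * gen .h * (f i : Fi24) = gen .h := by
            rw [mul_assoc, ← hf2 i, inv_mul_cancel_left]
          calc (f i : Fi24) * (g : Fi24) * (f i : Fi24)⁻¹ * gen .h * ((f i : Fi24) * (g : Fi24) * (f i : Fi24)⁻¹)⁻¹
              = (f i : Fi24) * (g : Fi24) * ((f i : Fi24)⁻¹ * gen .h * (f i : Fi24)) * (g : Fi24)⁻¹ * (f i : Fi24)⁻¹ := by
                group
            _ = _ := by rw [h5]; group
        rw [h2]
        exact h1
      have h1 := key i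
      rw [hij] at h1
      exact hnd.injective_get (h1.uniq (key j))

theorem bound_moved {g : Spor.Fi24'} (h3 : (g : Fi24) ^ 3 = y) (hm : (g : Fi24) * gen .h * (g : Fi24)⁻¹ ∉ L0) :
    Nat.card (centralizer ({g} : Set Spor.Fi24')) ≤ 9565938 := by
  have h1 := moved h3 hm
  have h2 : Nat.card (centralizer ({g ^ 3} : Set Spor.Fi24')) ≤ 153055008 := card_cent_y (s := g ^ 3) h3
  omega

/-- `v0 = h x1` -/
theorem bound_conj {g : Spor.Fi24'} (h3 : (g : Fi24) ^ 3 = y) {c : Fi24} (hc : Commute c y)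
    (hm : (c⁻¹ * (g : Fi24) * c) * gen .h * (c⁻¹ * (g : Fi24) * c)⁻¹ ∉ L0) :
    Nat.card (centralizer ({g} : Set Spor.Fi24')) ≤ 9565938 := by
  have e : ((cj c⁻¹ g : Spor.Fi24') : Fi24) = c⁻¹ * (g : Fi24) * c := by rw [coe_cj, inv_inv]
  rw [← card_cent_equiv (cj c⁻¹) g]
  apply bound_moved
  · rw [coe_cj, conj_pow, h3, inv_inv, mul_assoc, ← hc.eq, inv_mul_cancel_left]
  · rw [e]
    exact hm

/-- conjugation by `h x1` -/
theorem to_h {g : Fi24} (h : (((gen .h * x1)⁻¹ * g * (gen .h * x1)) * gen .h *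
    ((gen .h * x1)⁻¹ * g * (gen .h * x1))⁻¹) ∈ L0) : g * x1 * g⁻¹ ∈ L0 := by
  obtain ⟨hbr, -⟩ := braid_h
  have hh : (gen .h : Fi24) * gen .h = 1 := Cfsg.Agent.R08.FiTwentyFour.sq (Cfsg.Agent.R08.FiTwentyFour.gen_mem_L .h)
  have hx : (x1 : Fi24) * x1 = 1 := Cfsg.Agent.R08.FiTwentyFour.sq isPt_x1.mem
  have hhi : (gen .h : Fi24)⁻¹ = gen .h := inv_eq_of_mul_eq_one_left hh
  have hxi : (x1 : Fi24)⁻¹ = x1 := inv_eq_of_mul_eq_one_left hx
  have h' : ((gen .h * x1)⁻¹ * g * (gen .h * x1)) * gen .h * ((gen .h * x1)⁻¹ * g * (gen .h * x1))⁻¹ = gen .h ∨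
    ((gen .h * x1)⁻¹ * g * (gen .h * x1)) * gen .h * ((gen .h * x1)⁻¹ * g * (gen .h * x1))⁻¹ = x1 ∨
    ((gen .h * x1)⁻¹ * g * (gen .h * x1)) * gen .h * ((gen .h * x1)⁻¹ * g * (gen .h * x1))⁻¹ =
      gen .h * x1 * gen .h := h
  show g * x1 * g⁻¹ = gen .h ∨ g * x1 * g⁻¹ = x1 ∨ g * x1 * g⁻¹ = gen .h * x1 * gen .h
  clear h
  revert h'
  generalize (gen .h : Fi24) = a at *
  generalize (x1 : Fi24) = b at *
  intro h
  have e1 : a * b * a * (a * b)⁻¹ = b := by
    rw [mul_inv_rev, hhi, hxi]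
    calc a * b * a * (b * a) = (a * b * a) * b * a := by group
      _ = b * a * b * b * a := by rw [hbr]
      _ = b * a * (b * b) * a := by group
      _ = b * (a * a) := by rw [hx]; group
      _ = b := by rw [hh, mul_one]
  have e2 : g * b * g⁻¹ = (a * b) * (((a * b)⁻¹ * g * (a * b)) * a * ((a * b)⁻¹ * g * (a * b))⁻¹) * (a * b)⁻¹ := by
    calc g * b * g⁻¹ = g * (a * b * a * (a * b)⁻¹) * g⁻¹ := by rw [e1]
      _ = _ := by group
  rw [e2]
  have e3 : a * b * b * (a * b)⁻¹ = a * b * a := by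
    rw [mul_inv_rev, hhi, hxi, mul_assoc a b b, hx]
    group
  have e4 : a * b * (a * b * a) * (a * b)⁻¹ = a := by
    rw [mul_inv_rev, hhi, hxi]
    calc a * b * (a * b * a) * (b * a) = a * (b * a * b) * a * b * a := by group
      _ = a * (a * b * a) * a * b * a := by rw [← hbr]
      _ = (a * a) * b * (a * a) * b * a := by group
      _ = (b * b) * a := by rw [hh]; group
      _ = a := by rw [hx, one_mul]
  rcases h with h | h | h
  · rw [h]; exact Or.inr (Or.inl e1)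
  · rw [h]; exact Or.inr (Or.inr e3)
  · rw [h]; exact Or.inl e4

theorem comm_v : Commute (gen .h * x1) y := by
  have h1 : Commute y (gen .h : Fi24) := (isPt_h.comm_iff y).2 (rho_of_chkPt y_h)
  have h2 : Commute y x1 := (isPt_x1.comm_iff y).2 (rho_of_chkPt y_x)
  exact (h1.mul_right h2).symm

theorem comm_c : Commute (gen .h * b1) y := by
  have h1 : Commute y (gen .h : Fi24) := (isPt_h.comm_iff y).2 (rho_of_chkPt y_h)
  have h2 : Commute y b1 := (isPt_b1.comm_iff y).2 (rho_of_chkPt y_b)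
  exact (h1.mul_right h2).symm

theorem bound_y {g : Spor.Fi24'} (h3 : (g : Fi24) ^ 3 = y) :
    Nat.card (centralizer ({g} : Set Spor.Fi24')) ≤ 9565938 := by
  by_contra hcon
  apply lineB h3
  · by_contra h
    exact hcon (bound_moved h3 h)
  · by_contra h
    exact hcon (bound_conj h3 comm_v fun h' => h (to_h h'))
  · by_contra h
    exact hcon (bound_conj h3 comm_c h)
  · by_contra h
    refine hcon (bound_conj h3 (c := (gen .h * b1) * (gen .h * x1)) (comm_c.mul_left comm_v) fun h' => h (to_h ?_))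
    have e : ((gen .h * b1) * (gen .h * x1))⁻¹ * (g : Fi24) * ((gen .h * b1) * (gen .h * x1)) =
        (gen .h * x1)⁻¹ * ((gen .h * b1)⁻¹ * (g : Fi24) * (gen .h * b1)) * (gen .h * x1) := by group
    rwa [e] at h'

/-- **Box B**: the elements whose cube is conjugate to `X 3` or its inverse -/
theorem boxB {g : Spor.Fi24'} (h : ∃ z : Fi24, z * (g : Fi24) ^ 3 * z⁻¹ = Cfsg.Agent.H842.ThreeCl.X 3 ∨
    z * (g : Fi24) ^ 3 * z⁻¹ = (Cfsg.Agent.H842.ThreeCl.X 3)⁻¹) :
    Nat.card (centralizer ({g} : Set Spor.Fi24')) ≤ 9565938 := by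
  rw [X3_eq] at h
  obtain ⟨z, hz⟩ := h
  have hpow : ((cj z g : Spor.Fi24') : Fi24) ^ 3 = z * (g : Fi24) ^ 3 * z⁻¹ := by
    rw [coe_cj, conj_pow]
  rcases hz with hz | hz
  · rw [← card_cent_equiv (cj z) g]
    exact bound_y (hpow.trans hz)
  · rw [← card_cent_equiv (cj z) g, ← card_cent_inv]
    apply bound_y
    show (((cj z g : Spor.Fi24') : Fi24)⁻¹) ^ 3 = y
    rw [inv_pow, hpow, hz, inv_inv]

end Cfsg.Agent.H597.R7.OrbA
end

-- part: H180/R7/Nine
section
/-!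
# `Fi24'`: the elements of order 9 (helper180)

`r7` : `|C(g)| ≤ 10077696` for every `g` of order 9 of `Fi24'` (the largest centralizer has order 262440).
-/

set_option autoImplicit false
set_option maxRecDepth 100000

namespace Cfsg.Agent.H180.R7

open Subgroup

/-- **the elements of order 9 of `Fi24'`** -/
theorem r7 {g : Spor.Fi24'} (hg : orderOf g = 9) : Nat.card (centralizer ({g} : Set Spor.Fi24')) ≤ 10077696 :=
  of_three (fun _ _ h => (Cfsg.Agent.H597.R7.OrbA.boxB h).trans (by norm_num)) hg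

end Cfsg.Agent.H180.R7
end

-- part: H611/QF/RowC
section
/-!
# The row `Fi24'` of S2491, S2492: everything but the class `3C` times a 2-element (helper611)

* `rowC` : the row from the class `3C` times a 2-element; `rowC_iso` : the same for every group isomorphic to `Fi24'`.
-/

set_option autoImplicit false
set_option maxRecDepth 100000

namespace Cfsg.Agent.H611.QF

open Cfsg Subgroup Cfsg.Agent.H51.Mult Cfsg.Agent.H777.Ore Cfsg.Agent.H265.TF
open Cfsg.Agent.H52.ThreeFi24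
open Cfsg.Agent.H827.Coco (AA)
open Cfsg.Spor (Fi24)

universe u

/-- small centralizers -/
theorem good_small {g : Spor.Fi24'} (hg : Nat.card (centralizer ({g} : Set Spor.Fi24')) ≤ 14500000) : Good π3 g :=
  good_of_cent' pce.surj pce.cen card_ker_L3 degK Cfsg.Agent.H610.TF.degL hg

/-- **every element of `Fi24'` is good, given the class `3C` times a 2-element** -/
theorem all_good_of (hOne : ∀ (s t : Spor.Fi24') (n : ℕ), orderOf s = 3 → Cls 1 s → t ^ 2 ^ n = 1 → Commute s t →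
      Good π3 (s * t)) (k : Spor.Fi24') : Good π3 k := by
  have h5 : ∀ z s : Spor.Fi24', z ≠ 1 → z * z = 1 → orderOf s = 3 → Commute z s → ¬ Cls 0 s → ¬ Cls 1 s →
      Nat.card (centralizer ({z} : Set Spor.Fi24') ⊓ centralizer ({s} : Set Spor.Fi24') : Subgroup Spor.Fi24') ≤
        14500000 := fun z s h1 h2 h3 h4 h0 h1' => (Cfsg.Agent.H29.TF.r5 z s h1 h2 h3 h4 h0 h1').trans (by norm_num)
  exact cases3 (P := Good π3) (by norm_num) (fun _ hg => good_small hg) (fun _ _ h => two h) (fun _ h => six h)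
    (fun _ hg => (Cfsg.Agent.H180.R7.r7 hg).trans (by norm_num)) h5
    (fun s t n ho hc ht hst => hc.elim (fun h => good_zero h ht hst) fun h => hOne s t n ho h ht hst) k

theorem rowC (hOne : ∀ (s t : Spor.Fi24') (n : ℕ), orderOf s = 3 → Cls 1 s → t ^ 2 ^ n = 1 → Commute s t →
      Good π3 (s * t)) : H6.QO.RowA Spor.Fi24' :=
  rowA_of (all_good_of hOne)

theorem rowC_iso (hOne : ∀ (s t : Spor.Fi24') (n : ℕ), orderOf s = 3 → Cls 1 s → t ^ 2 ^ n = 1 → Commute s t →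
      Good π3 (s * t)) {K : Type u} [Group K] (h : Spor.IsoFi24' K) : H6.QO.RowA K := by
  obtain ⟨e⟩ := h
  exact (rowC hOne).congr e.symm

end Cfsg.Agent.H611.QF
end

-- part: H29/TF/OmTwo
section
/-!
# `Fi24'`: elements `s t`, `s` of order 3, `t ≠ 1` a commuting 2-element (helper29, for S2491, S2492)

* `few` : a 2-element `t ∉ ⟨z⟩` of `H3 = C(z) ∩ C(ω)` has at least three conjugates in `H3`;
* `core` : `s`, `t` in `C(z)`: `|C(z) ∩ C(s t)| ≤ 13063680`, or `t = z` and `s` is conjugate to `ω ^ {±1}` in `C(z)`.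
-/

set_option autoImplicit false
set_option maxRecDepth 100000

namespace Cfsg.Agent.H29.TF

open Cfsg Cfsg.Spor Subgroup
open Cfsg.Agent.Fischer.Fi24RepDef Cfsg.Agent.Fischer.Fi24Rep
open Cfsg.Agent.KFacts.FiTF Cfsg.Agent.KFacts.FiTF.Defs Cfsg.Agent.KFacts.FiTF.Pts Cfsg.Agent.KFacts.FiTF.Tet
open Cfsg.Agent.KFacts.FiTF.Orb Cfsg.Agent.KFacts.FiTF.Lin
open Cfsg.Agent.KFacts.FiTF.OrbSys
open Cfsg.Agent.KFacts.Codes
open Cfsg.Agent.H98.Ex2 Cfsg.Agent.H98.Ex2.FiTwoB
open Cfsg.Agent.Lib.PermNetOrbit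
open Cfsg.Agent.H29.TF.Dat

/-! ### Words fixing the code 1 -/

def S1 (i : ℕ) : List ℕ := ([[3, 6, 13, 5, 8, 1], [5], [2, 3], [4], [2, 4]] : List (List ℕ)).getD i []

theorem S1_fix : ∀ i < 5, wa (S1 i) 1 = 1 := by decide +kernel

def ckT (c i j : ℕ) : Bool := !(Nat.beq (wa (S1 i) c) c) && (!(Nat.beq (wa (S1 j) c) c) &&
  !(Nat.beq (wa (S1 i) c) (wa (S1 j) c)))

def ckS (c : ℕ) : Bool := !(Om.OM.testBit c) || (Nat.beq c 1 || (Nat.beq c 2 || (Nat.beq c 3 ||
  (List.range 5).any fun i => (List.range 5).any fun j => ckT c i j)))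

private noncomputable def _root_.Cfsg.Agent.KOf337cca.k0 : type_of% @Decidable.decide := @(fun x0 x1 => @Decidable.rec.{1} _ @(fun x2 => @Bool) @(fun x2 => @Bool.false) @(fun x2 => @Bool.true) @x1)
private theorem _root_.Cfsg.Agent.KOf337cca.e0 : @Decidable.decide = @_root_.Cfsg.Agent.KOf337cca.k0 := by delta _root_.Cfsg.Agent.KOf337cca.k0; rfl'
private noncomputable def _root_.Cfsg.Agent.KOf337cca.k2 : type_of% @Bool.decEq := @(fun x0 x1 => @Bool.rec.{1} @(fun x2 => @Decidable (@Eq.{1} _ @x2 @x1)) (@Bool.rec.{1} @(fun x2 => @Decidable (@Eq.{1} _ @Bool.false @x2)) (@Decidable.isTrue _ (@rfl.{1} _ _)) (@Decidable.isFalse _ @(fun x2 => @Bool.noConfusion.{0} _ _ _ @x2)) @x1) (@Bool.rec.{1} @(fun x2 => @Decidable (@Eq.{1} _ @Bool.true @x2)) (@Decidable.isFalse _ @(fun x2 => @Bool.noConfusion.{0} _ _ _ @x2)) (@Decidable.isTrue _ (@rfl.{1} _ _)) @x1) @x0)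
private theorem _root_.Cfsg.Agent.KOf337cca.e2 : @Bool.decEq = @_root_.Cfsg.Agent.KOf337cca.k2 := by delta _root_.Cfsg.Agent.KOf337cca.k2; rfl'
private noncomputable def _root_.Cfsg.Agent.KOf337cca.k3 : type_of% @instDecidableEqBool := @Cfsg.Agent.KOf337cca.k2
private theorem _root_.Cfsg.Agent.KOf337cca.e3 : @instDecidableEqBool = @_root_.Cfsg.Agent.KOf337cca.k3 := by delta _root_.Cfsg.Agent.KOf337cca.k3; rewrite [← Cfsg.Agent.KOf337cca.e2]; rfl'
private theorem _root_.Cfsg.Agent.KOf337cca.e29.{ku, kv} {α : Type kv} {M : List α → Sort ku} (φ : ∀ l, M l) {z : M List.nil} {s : ∀ a l, M l → M (List.cons a l)} (h0 : φ List.nil = z) (hs : ∀ a l, φ (List.cons a l) = s a l (φ l)) (l : List α) : φ l = @List.rec α M z s l := List.rec h0 (fun a l ih => (hs a l).trans (congrArg (s a l) ih)) l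
private noncomputable def _root_.Cfsg.Agent.KOf337cca.k31.{ku0} : type_of% @List.get?Internal.{ku0} := @(fun x0 x1 x2 => @List.rec.{(ku0+1), ku0} @x0 @(fun x3 => ℕ → @Option.{ku0} @x0) @(fun x3 => @Option.none.{ku0} _) @(fun x3 x4 x5 x6 => @Nat.rec.{(ku0+1)} @(fun x7 => @Option.{ku0} @x0) (@Option.some.{ku0} _ @x3) @(fun x7 x8 => @x5 @x7) @x6) @x1 @x2)
private theorem _root_.Cfsg.Agent.KOf337cca.e31.{ku0} : @List.get?Internal.{ku0} = @_root_.Cfsg.Agent.KOf337cca.k31.{ku0} := by delta _root_.Cfsg.Agent.KOf337cca.k31; funext a0 a1 a2; refine (congrFun (_root_.Cfsg.Agent.KOf337cca.e29 (fun a1 a2 => @List.get?Internal.{ku0} a0 a1 a2) ?_ (fun c0 c1 => ?_) a1) a2 :) <;> [(funext b0; (rfl')); (funext b0; (cases b0 with | @zero  => (rfl') | @succ b0_0 => (rfl')))]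
private noncomputable def _root_.Cfsg.Agent.KOf337cca.k46l (n : Nat) (P : ∀ k, k < n → Prop) (H : ∀ k h, Decidable (P k h)) (m : Nat) : m ≤ n → Bool := @Nat.rec (fun m => m ≤ n → Bool) (fun _ => true) (fun k ih h => @Decidable.rec (P k h) (fun _ => Bool) (fun _ => false) (fun _ => ih (Nat.le_of_succ_le h)) (H k h)) m
private theorem _root_.Cfsg.Agent.KOf337cca.k46ls (n : Nat) (P : ∀ k, k < n → Prop) (H : ∀ k h, Decidable (P k h)) (m : Nat) : ∀ h : m ≤ n, _root_.Cfsg.Agent.KOf337cca.k46l n P H m h = true ↔ ∀ k (g : k < m), P k (Nat.lt_of_lt_of_le g h) := by induction m with | zero => exact fun _ => ⟨fun _ _ g => absurd g (Nat.not_lt_zero _), fun _ => rfl⟩ | succ m ih => intro h; show @Decidable.rec (P m h) (fun _ => Bool) (fun _ => false) (fun _ => _root_.Cfsg.Agent.KOf337cca.k46l n P H m (Nat.le_of_succ_le h)) (H m h) = true ↔ _; cases H m h with | isFalse q => exact ⟨fun g => absurd g Bool.false_ne_true, fun g => absurd (g m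 (Nat.lt_succ_self m)) q⟩ | isTrue q => exact ⟨fun g k hk => (Nat.lt_succ_iff_lt_or_eq.1 hk).elim ((ih _).1 g k) fun e => by subst e; exact q, fun g => (ih _).2 fun k hk => g k (Nat.lt_succ_of_lt hk)⟩
private noncomputable def _root_.Cfsg.Agent.KOf337cca.k46 (n : Nat) (P : ∀ k, k < n → Prop) (H : ∀ k h, Decidable (P k h)) : Decidable (∀ k h, P k h) := @Bool.rec (fun b => _root_.Cfsg.Agent.KOf337cca.k46l n P H n (Nat.le_refl n) = b → Decidable (∀ k h, P k h)) (fun g => isFalse fun q => Bool.false_ne_true (g.symm.trans ((_root_.Cfsg.Agent.KOf337cca.k46ls n P H n _).2 fun k h => q k h))) (fun g => isTrue fun k h => (_root_.Cfsg.Agent.KOf337cca.k46ls n P H n _).1 g k h) (_root_.Cfsg.Agent.KOf337cca.k46l n P H n (Nat.le_refl n)) rfl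
private theorem _root_.Cfsg.Agent.KOf337cca.e46 : @Nat.decidableBallLT = @_root_.Cfsg.Agent.KOf337cca.k46 := funext fun _ => funext fun _ => funext fun _ => Subsingleton.elim _ _
private noncomputable def _root_.Cfsg.Agent.KOf337cca.oEq.{ku} (α : Sort ku) (a b : Nat) (f t : α) : α := @Decidable.rec (a = b) (fun _ => α) (fun _ => f) (fun _ => t) (Nat.decEq a b)
private noncomputable def _root_.Cfsg.Agent.KOf337cca.k47.{ku} (α : Sort ku) (a b : Nat) (f t : α) : α := @Bool.rec (fun _ => α) f t (Nat.beq a b)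
private theorem _root_.Cfsg.Agent.KOf337cca.e47.{ku} : @_root_.Cfsg.Agent.KOf337cca.oEq.{ku} = @_root_.Cfsg.Agent.KOf337cca.k47.{ku} := funext fun α => funext fun a => funext fun b => funext fun f => funext fun t => by delta _root_.Cfsg.Agent.KOf337cca.oEq _root_.Cfsg.Agent.KOf337cca.k47; cases h : Nat.beq a b <;> cases Nat.decEq a b <;> rename_i g <;> first | rfl | exact absurd g (Nat.ne_of_beq_eq_false h) | exact absurd (Nat.eq_of_beq_eq_true h) g
private noncomputable def _root_.Cfsg.Agent.KOf337cca.k48.{ku0} : type_of% @List.any.{ku0} := @(fun x0 x1 x2 => @List.rec.{(ku0+1), ku0} @x0 @(fun x3 => (@x0 → @Bool) → @Bool) @(fun x3 => @Bool.false) @(fun x3 x4 x5 x6 => @Bool.rec.{1} @(fun x7 => @Bool) (@x5 @x6) @Bool.true (@x6 @x3)) @x1 @x2)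
private theorem _root_.Cfsg.Agent.KOf337cca.e48.{ku0} : @List.any.{ku0} = @_root_.Cfsg.Agent.KOf337cca.k48.{ku0} := by delta _root_.Cfsg.Agent.KOf337cca.k48; funext a0 a1 a2; refine (congrFun (_root_.Cfsg.Agent.KOf337cca.e29 (fun a1 a2 => @List.any.{ku0} a0 a1 a2) ?_ (fun c0 c1 => ?_) a1) a2 :) <;> (rfl')
private theorem _root_.Cfsg.Agent.KOf337cca.e49.{ku} {M : Nat → Sort ku} (φ : ∀ n, M n) {z : M Nat.zero} {s : ∀ n, M n → M (Nat.succ n)} (h0 : φ Nat.zero = z) (hs : ∀ n, φ (Nat.succ n) = s n (φ n)) (n : Nat) : φ n = @Nat.rec M z s n := Nat.rec h0 (fun n ih => (hs n).trans (congrArg (s n) ih)) n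
private noncomputable def _root_.Cfsg.Agent.KOf337cca.k50 : type_of% @List.range.loop := @(fun x0 x1 => @Nat.rec.{1} @(fun x2 => (@List.{0} ℕ) → @List.{0} ℕ) @(fun x2 => @x2) @(fun x2 x3 x4 => @x3 (@x2 :: @x4)) @x0 @x1)
private theorem _root_.Cfsg.Agent.KOf337cca.e50 : @List.range.loop = @_root_.Cfsg.Agent.KOf337cca.k50 := by delta _root_.Cfsg.Agent.KOf337cca.k50; funext a0 a1; refine (congrFun (_root_.Cfsg.Agent.KOf337cca.e49 (fun a0 a1 => @List.range.loop a0 a1) ?_ (fun c0 => ?_) a0) a1 :) <;> (rfl')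
private noncomputable def _root_.Cfsg.Agent.KOf337cca.k51 : (by first | exact type_of% @Cfsg.Agent.KFacts.FiTF.Orb.lf | exact Unit : Sort _) := by first | (refine @Subtype.val _ (fun g => @Cfsg.Agent.KFacts.FiTF.Orb.lf = @g) (@Subtype.mk _ _ (@(fun x0 x1 => @List.rec.{1, 0} ℕ @(fun x2 => ℕ → ℕ) @(fun x2 => nat_lit 0) @(fun x2 x3 x4 x5 => @Nat.xor (@Nat.mul (@Nat.mod @x5 (nat_lit 2)) @x2) (@x4 (@Nat.div @x5 (nat_lit 2)))) @x0 @x1)) ?_); funext a0 a1; refine (congrFun (_root_.Cfsg.Agent.KOf337cca.e29 (fun a0 a1 => @Cfsg.Agent.KFacts.FiTF.Orb.lf a0 a1) ?_ (fun c0 c1 => ?_) a0) a1 :) <;> (rfl')) | exact @Cfsg.Agent.KFacts.FiTF.Orb.lf | exact ()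
private theorem _root_.Cfsg.Agent.KOf337cca.e51 : (by first | exact @Cfsg.Agent.KFacts.FiTF.Orb.lf = @_root_.Cfsg.Agent.KOf337cca.k51 | exact True : Prop) := by first | (delta _root_.Cfsg.Agent.KOf337cca.k51; exact @Subtype.property _ (fun g => @Cfsg.Agent.KFacts.FiTF.Orb.lf = @g) _) | rfl | trivial
private noncomputable def _root_.Cfsg.Agent.KOf337cca.k52 : (by first | exact type_of% @Cfsg.Agent.KFacts.FiTF.Orb.YL | exact Unit : Sort _) := by first | (refine @Subtype.val _ (fun g => @Cfsg.Agent.KFacts.FiTF.Orb.YL = @g) (@Subtype.mk _ _ (@(fun x0 => @Option.rec.{1, 0} (@List.{0} ℕ) @(fun x1 => @List.{0} ℕ) [] @(fun x1 => @x1) (@Cfsg.Agent.KOf337cca.k31.{0} _ (((nat_lit 1) :: ((nat_lit 2) :: ((nat_lit 5) :: ((nat_lit 10) :: ((nat_lit 16) :: ((nat_lit 32) :: ((nat_lit 64) :: ((nat_lit 128) :: ((nat_lit 256) :: ((nat_lit 512) :: ((nat_lit 1024) :: ((nat_lit 2048) :: [])))))))))))) :: (((nat_lit 5) :: ((nat_lit 10) :: ((nat_lit 4)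 :: ((nat_lit 8) :: ((nat_lit 20) :: ((nat_lit 40) :: ((nat_lit 64) :: ((nat_lit 128) :: ((nat_lit 256) :: ((nat_lit 512) :: ((nat_lit 1028) :: ((nat_lit 2056) :: [])))))))))))) :: (((nat_lit 1) :: ((nat_lit 2) :: ((nat_lit 20) :: ((nat_lit 40) :: ((nat_lit 16) :: ((nat_lit 32) :: ((nat_lit 80) :: ((nat_lit 160) :: ((nat_lit 272) :: ((nat_lit 544) :: ((nat_lit 1024) :: ((nat_lit 2048) :: [])))))))))))) :: (((nat_lit 1) :: ((nat_lit 2) :: ((nat_lit 4) :: ((nat_lit 8) :: ((nat_lit 80) :: ((nat_lit 160) :: ((nat_lit 64) :: ((nat_lit 128) :: ((nat_lit 256) :: ((nat_lit 512) :: ((nat_lit 1216) :: ((nat_lit 2112) :: [])))))))))))) :: (((nat_lit 1) :: ((nat_lit 2) :: ((nat_lit 4) :: ((nat_lit 8) :: ((nat_lit 272) :: ((nat_lit 544) :: ((nat_lit 64) :: ((nat_lit 128) :: ((nat_lit 256) :: ((nat_lit 512) :: ((nat_lit 1536) :: ((nat_lit 2816) :: [])))))))))))) :: (((nat_lit 1) :: ((nat_lit 2) :: ((nat_lit 1028) :: ((nat_lit 2056) :: ((nat_lit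 16) :: ((nat_lit 32) :: ((nat_lit 2112) :: ((nat_lit 3200) :: ((nat_lit 3328) :: ((nat_lit 1536) :: ((nat_lit 1024) :: ((nat_lit 2048) :: [])))))))))))) :: [])))))) @x0))) ?_); rewrite [← Cfsg.Agent.KOf337cca.e31.{0}]; rfl') | exact @Cfsg.Agent.KFacts.FiTF.Orb.YL | exact ()
private theorem _root_.Cfsg.Agent.KOf337cca.e52 : (by first | exact @Cfsg.Agent.KFacts.FiTF.Orb.YL = @_root_.Cfsg.Agent.KOf337cca.k52 | exact True : Prop) := by first | (delta _root_.Cfsg.Agent.KOf337cca.k52; exact @Subtype.property _ (fun g => @Cfsg.Agent.KFacts.FiTF.Orb.YL = @g) _) | rfl | trivial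
private noncomputable def _root_.Cfsg.Agent.KOf337cca.k53 : (by first | exact type_of% @Cfsg.Agent.KFacts.FiTF.Orb.ff | exact Unit : Sort _) := by first | (refine @Subtype.val _ (fun g => @Cfsg.Agent.KFacts.FiTF.Orb.ff = @g) (@Subtype.mk _ _ (@(fun x0 x1 => @Cfsg.Agent.KOf337cca.k51 (@Cfsg.Agent.KOf337cca.k52 (@Nat.mod (@Nat.div @x0 (nat_lit 6)) (nat_lit 6))) (@Cfsg.Agent.KOf337cca.k51 (@Cfsg.Agent.KOf337cca.k52 (@Nat.mod @x0 (nat_lit 6))) @x1))) ?_); rewrite [← Cfsg.Agent.KOf337cca.e52, ← Cfsg.Agent.KOf337cca.e51]; (try delta Cfsg.Agent.KFacts.FiTF.Orb.ff); (try generalize @Cfsg.Agent.KFacts.FiTF.Orb.lf = g0); (try generalize @Cfsg.Agent.KFacts.FiTF.Orb.YL = g1); rfl') | exact @Cfsg.Agent.KFacts.FiTF.Orb.ff | exact ()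
private theorem _root_.Cfsg.Agent.KOf337cca.e53 : (by first | exact @Cfsg.Agent.KFacts.FiTF.Orb.ff = @_root_.Cfsg.Agent.KOf337cca.k53 | exact True : Prop) := by first | (delta _root_.Cfsg.Agent.KOf337cca.k53; exact @Subtype.property _ (fun g => @Cfsg.Agent.KFacts.FiTF.Orb.ff = @g) _) | rfl | trivial
private noncomputable def _root_.Cfsg.Agent.KOf337cca.k54 : (by first | exact type_of% @Cfsg.Agent.KFacts.FiTF.OrbSys.wa | exact Unit : Sort _) := by first | (refine @Subtype.val _ (fun g => @Cfsg.Agent.KFacts.FiTF.OrbSys.wa = @g) (@Subtype.mk _ _ (@(fun x0 x1 => @List.rec.{1, 0} ℕ @(fun x2 => ℕ → ℕ) @(fun x2 => @x2) @(fun x2 x3 x4 x5 => @Cfsg.Agent.KOf337cca.k53 @x2 (@x4 @x5)) @x0 @x1)) ?_); rewrite [← Cfsg.Agent.KOf337cca.e53]; funext a0 a1; refine (congrFun (_root_.Cfsg.Agent.KOf337cca.e29 (fun a0 a1 => @Cfsg.Agent.KFacts.FiTF.OrbSys.wa a0 a1) ?_ (fun c0 c1 => ?_) a0) a1 :) <;> ((try delta Cfsg.Agent.KFacts.FiTF.OrbSys.wa Cfsg.Agent.KFacts.FiTF.OrbSys.wa._f);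 (try generalize @Cfsg.Agent.KFacts.FiTF.Orb.ff = g0); rfl')) | exact @Cfsg.Agent.KFacts.FiTF.OrbSys.wa | exact ()
private theorem _root_.Cfsg.Agent.KOf337cca.e54 : (by first | exact @Cfsg.Agent.KFacts.FiTF.OrbSys.wa = @_root_.Cfsg.Agent.KOf337cca.k54 | exact True : Prop) := by first | (delta _root_.Cfsg.Agent.KOf337cca.k54; exact @Subtype.property _ (fun g => @Cfsg.Agent.KFacts.FiTF.OrbSys.wa = @g) _) | rfl | trivial
private noncomputable def _root_.Cfsg.Agent.KOf337cca.k55 : (by first | exact type_of% @Cfsg.Agent.H29.TF.S1 | exact Unit : Sort _) := by first | (refine @Subtype.val _ (fun g => @Cfsg.Agent.H29.TF.S1 = @g) (@Subtype.mk _ _ (@(fun x0 => @Option.rec.{1, 0} (@List.{0} ℕ) @(fun x1 => @List.{0} ℕ) [] @(fun x1 => @x1) (@Cfsg.Agent.KOf337cca.k31.{0} _ (((nat_lit 3) :: ((nat_lit 6) :: ((nat_lit 13) :: ((nat_lit 5) :: ((nat_lit 8) :: ((nat_lit 1) :: [])))))) :: (((nat_lit 5) :: []) :: (((nat_lit 2) :: ((nat_lit 3) :: []))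 :: (((nat_lit 4) :: []) :: (((nat_lit 2) :: ((nat_lit 4) :: [])) :: []))))) @x0))) ?_); rewrite [← Cfsg.Agent.KOf337cca.e31.{0}]; rfl') | exact @Cfsg.Agent.H29.TF.S1 | exact ()
private theorem _root_.Cfsg.Agent.KOf337cca.e55 : (by first | exact @Cfsg.Agent.H29.TF.S1 = @_root_.Cfsg.Agent.KOf337cca.k55 | exact True : Prop) := by first | (delta _root_.Cfsg.Agent.KOf337cca.k55; exact @Subtype.property _ (fun g => @Cfsg.Agent.H29.TF.S1 = @g) _) | rfl | trivial
private noncomputable def _root_.Cfsg.Agent.KOf337cca.k56 : (by first | exact type_of% @Cfsg.Agent.H29.TF.ckT | exact Unit : Sort _) := by first | (refine @Subtype.val _ (fun g => @Cfsg.Agent.H29.TF.ckT = @g) (@Subtype.mk _ _ (@(fun x0 x1 x2 => @Bool.rec.{1} @(fun x3 => @Bool) @Bool.false (@Bool.rec.{1} @(fun x3 => @Bool) @Bool.false (@Bool.rec.{1} @(fun x3 => @Bool) @Bool.true @Bool.false (@Nat.beq (@Cfsg.Agent.KOf337cca.k54 (@Cfsg.Agent.KOf337cca.k55 @x1) @x0) (@Cfsg.Agent.KOf337cca.k54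 (@Cfsg.Agent.KOf337cca.k55 @x2) @x0))) (@Bool.rec.{1} @(fun x3 => @Bool) @Bool.true @Bool.false (@Nat.beq (@Cfsg.Agent.KOf337cca.k54 (@Cfsg.Agent.KOf337cca.k55 @x2) @x0) @x0))) (@Bool.rec.{1} @(fun x3 => @Bool) @Bool.true @Bool.false (@Nat.beq (@Cfsg.Agent.KOf337cca.k54 (@Cfsg.Agent.KOf337cca.k55 @x1) @x0) @x0)))) ?_); rewrite [← Cfsg.Agent.KOf337cca.e55, ← Cfsg.Agent.KOf337cca.e54]; (try delta Cfsg.Agent.H29.TF.ckT); (try generalize @Cfsg.Agent.KFacts.FiTF.OrbSys.wa = g0); (try generalize @Cfsg.Agent.H29.TF.S1 = g1); rfl') | exact @Cfsg.Agent.H29.TF.ckT | exact ()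
private theorem _root_.Cfsg.Agent.KOf337cca.e56 : (by first | exact @Cfsg.Agent.H29.TF.ckT = @_root_.Cfsg.Agent.KOf337cca.k56 | exact True : Prop) := by first | (delta _root_.Cfsg.Agent.KOf337cca.k56; exact @Subtype.property _ (fun g => @Cfsg.Agent.H29.TF.ckT = @g) _) | rfl | trivial
private noncomputable def _root_.Cfsg.Agent.KOf337cca.k57 : (by first | exact type_of% @Cfsg.Agent.H29.TF.ckS | exact Unit : Sort _) := by first | (refine @Subtype.val _ (fun g => @Cfsg.Agent.H29.TF.ckS = @g) (@Subtype.mk _ _ (@(fun x0 => @Bool.rec.{1} @(fun x1 => @Bool) (@Bool.rec.{1} @(fun x1 => @Bool) (@Bool.rec.{1} @(fun x1 => @Bool) (@Bool.rec.{1} @(fun x1 => @Bool) (@Cfsg.Agent.KOf337cca.k48.{0} _ (@Cfsg.Agent.KOf337cca.k50 (nat_lit 5) []) @(fun x1 => @Cfsg.Agent.KOf337cca.k48.{0} _ (@Cfsg.Agent.KOf337cca.k50 (nat_lit 5) []) @(fun x2 => @Cfsg.Agent.KOf337cca.k56 @x0 @x1 @x2))) @Bool.true (@Nat.beq @x0 (nat_lit 3))) @Bool.true (@Nat.beq @x0 (nat_lit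 2))) @Bool.true (@Nat.beq @x0 (nat_lit 1))) @Bool.true (@Bool.rec.{1} @(fun x1 => @Bool) @Bool.true @Bool.false (@Bool.rec.{1} @(fun x1 => @Bool) @Bool.true @Bool.false (@Cfsg.Agent.KOf337cca.k47.{1} @Bool (@Nat.land (nat_lit 1) (@Nat.shiftRight @Cfsg.Agent.KFacts.FiTF.Om.OM @x0)) (nat_lit 0) @Bool.false @Bool.true))))) ?_); rewrite [← Cfsg.Agent.KOf337cca.e47.{1}, ← Cfsg.Agent.KOf337cca.e56, ← Cfsg.Agent.KOf337cca.e50, ← Cfsg.Agent.KOf337cca.e48.{0}]; (try delta Cfsg.Agent.H29.TF.ckS); (try generalize @Cfsg.Agent.H29.TF.ckT = g0); (try generalize @Cfsg.Agent.KFacts.FiTF.Om.OM = g1); rfl') | exact @Cfsg.Agent.H29.TF.ckS | exact ()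
private theorem _root_.Cfsg.Agent.KOf337cca.e57 : (by first | exact @Cfsg.Agent.H29.TF.ckS = @_root_.Cfsg.Agent.KOf337cca.k57 | exact True : Prop) := by first | (delta _root_.Cfsg.Agent.KOf337cca.k57; exact @Subtype.property _ (fun g => @Cfsg.Agent.H29.TF.ckS = @g) _) | rfl | trivial

theorem ckS_aux : ∀ a < 64, ∀ b < 64, ckS (64 * a + b) = true := by (first | (refine of_decide_eq_true ?_; rewrite [Cfsg.Agent.KOf337cca.e0, Cfsg.Agent.KOf337cca.e46, Cfsg.Agent.KOf337cca.e3, Cfsg.Agent.KOf337cca.e57]; decide +kernel) | decide +kernel)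

theorem OM_basis : ∀ j < 12, Om.OM.testBit (2 ^ j) = true := by decide +kernel

theorem om1 : om 1 = 2 ∧ om (om 1) = 3 := by decide +kernel

theorem three {c : ℕ} (hc : c < 4096) (h : Om.OM.testBit c = true) (h1 : c ≠ 1) (h2 : c ≠ 2) (h3 : c ≠ 3) :
    ∃ i < 5, ∃ j < 5, wa (S1 i) c ≠ c ∧ wa (S1 j) c ≠ c ∧ wa (S1 i) c ≠ wa (S1 j) c := by
  have h4 : ckS c = true := of64 (P := fun c => ckS c = true) ckS_aux hc
  unfold ckS at h4
  simp only [h, Bool.not_true, Bool.false_or, Bool.or_eq_true, List.any_eq_true, List.mem_range] at h4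
  rcases h4 with h4 | h4 | h4 | ⟨i, hi, j, hj, h4⟩
  · exact absurd (Nat.eq_of_beq_eq_true h4) h1
  · exact absurd (Nat.eq_of_beq_eq_true h4) h2
  · exact absurd (Nat.eq_of_beq_eq_true h4) h3
  · unfold ckT at h4
    simp only [Bool.and_eq_true, Bool.not_eq_true'] at h4
    exact ⟨i, hi, j, hj, Nat.ne_of_beq_eq_false h4.1, Nat.ne_of_beq_eq_false h4.2.1, Nat.ne_of_beq_eq_false h4.2.2⟩

/-! ### `H3` -/

theorem ome_mem : ome ∈ C := mem_C.2 ⟨Cfsg.Agent.H827.CocoD.word_mem (by decide), ome_z⟩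

/-- `C(z) ∩ C(ω)` -/
def H3 : Subgroup Spor.Fi24 := C ⊓ centralizer ({ome} : Set Spor.Fi24)

theorem H3_C {g : Spor.Fi24} (h : g ∈ H3) : g ∈ C := h.1

theorem H3_ome {g : Spor.Fi24} (h : g ∈ H3) : g * ome = ome * g := mem_centralizer_singleton_iff.1 h.2

theorem card_H3 : Nat.card H3 ≤ 39191040 := by
  have h1 := card_orb C ome
  rw [card_C] at h1
  have h2 : (Finset.range 4096).card ≤ (cls R ome).ncard := by
    refine card_A ome_mem ?_
    intro a ha
    have halt : a < 4096 := Finset.mem_range.1 ha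
    exact ⟨om a, om_lt _, by rw [isOm_ome _ (om_lt _), om2_eq halt, ← Nat.xor_assoc, Nat.xor_self, Nat.zero_xor]⟩
  rw [Finset.card_range] at h2
  have h3 : (cls R ome).ncard ≤ (cls C ome).ncard := by
    refine Set.ncard_le_ncard ?_ (Set.toFinite _)
    rintro _ ⟨g, hg, rfl⟩
    exact ⟨g, sit.RC hg, rfl⟩
  have h6 : {y | ∃ g ∈ C, g * ome * g⁻¹ = y}.ncard = (cls C ome).ncard := rfl
  rw [h6] at h1
  by_contra h7
  push Not at h7
  have h8 : 4096 * 39191041 ≤ (cls C ome).ncard * Nat.card ↥(C ⊓ centralizer ({ome} : Set Spor.Fi24)) :=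
    Nat.mul_le_mul (h2.trans h3) h7
  omega

/-- a scalar is conjugate to `ω` under `R` -/
theorem conj_R {s : Spor.Fi24} (hs : s ∈ C) (h3 : s ^ 3 = 1) (h : IsOm s) : ∃ q ∈ R, q * ome * q⁻¹ = s := by
  have zz := frame.zz
  have hsz := C_z hs
  have hoz := ome_z
  have hr : s * ome⁻¹ ∈ R := by
    refine Cfsg.Agent.KFacts.LargeO2.mem_of_triv (Abs.large frame) (mul_z hsz (inv_z hoz)) ?_
    intro r hr
    have h1 : Ez z r (cod 12 z x (Lin.pi 12 z x r)) := RQ.sys.ez_pi hr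
    set c := Lin.pi 12 z x r with hc
    have hclt : c < 4096 := RQ.sys.dt.pi_lt _
    have h2 := h1.conj (mul_z hsz (inv_z hoz))
    have h4 : ac (s * ome⁻¹) c = c := by
      rw [ac_mul hsz (inv_z hoz)]
      set d := ac ome⁻¹ c with hd
      have hdlt : d < 4096 := ac_lt _ _
      have h5 : ac ome d = c := ac_inv' hoz hclt
      rw [h d hdlt, ← isOm_ome d hdlt, h5]
    have h5 := ac_spec (mul_z hsz (inv_z hoz)) c
    rw [h4] at h5
    have h6 := (h2.trans zz h5).trans zz (h1.symm zz)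
    rcases h6 with h6 | h6
    · exact Or.inl h6
    · right
      rw [h6]
      exact (RQ.R_z hr).symm
  have h1 : Ez z (s * ome⁻¹) (cod 12 z x (Lin.pi 12 z x (s * ome⁻¹))) := RQ.sys.ez_pi hr
  set a := Lin.pi 12 z x (s * ome⁻¹) with ha
  have halt : a < 4096 := RQ.sys.dt.pi_lt _
  have h2 := comm_ez hoz (om a)
  have h4 : om a ^^^ ac ome (om a) = a := by
    rw [isOm_ome _ (om_lt _), om2_eq halt, ← Nat.xor_assoc, Nat.xor_self, Nat.zero_xor]
  rw [h4] at h2
  have h5 := h2.trans zz (h1.symm zz)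
  have hqR : cod 12 z x (om a) ∈ R := cod_mem _
  set q := cod 12 z x (om a) with hq
  rcases h5 with h5 | h5
  · refine ⟨q, hqR, ?_⟩
    calc q * ome * q⁻¹ = (q * ome * q⁻¹ * ome⁻¹) * ome := by group
      _ = s := by rw [h5]; group
  · exfalso
    have h6 : q * ome * q⁻¹ = z * s := by
      calc q * ome * q⁻¹ = (q * ome * q⁻¹ * ome⁻¹) * ome := by group
        _ = z * s := by rw [h5]; group
    have h7 : (z * s) ^ 3 = 1 := by rw [← h6, conj_pow, ome_cube]; group
    have h8 : (z * s) ^ 3 = z ^ 3 * s ^ 3 := (show Commute z s from hsz.symm).mul_pow 3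
    rw [h7, h3, mul_one, pow_succ, pow_two, zz, one_mul] at h8
    exact frame.z1 h8.symm

/-- every element of `E` acts on the codes as an element of `H3` -/
theorem lift_H3 {e : Spor.Fi24} (he : e ∈ E) : ∃ h ∈ H3, ∀ c < 4096, ac h c = ac e c := by
  have hez := E_z he
  have hCm := Cm.E he
  have hcj : e * ome * e⁻¹ ∈ C := C.mul_mem (C.mul_mem (E_C he) ome_mem) (C.inv_mem (E_C he))
  obtain ⟨q, hq, h1⟩ := conj_R hcj (by rw [conj_pow, ome_cube]; group) (by
    intro c hc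
    have h2 : ac e (ac e⁻¹ c) = c := ac_inv' hez hc
    have h3 := ac_conj hez ome_z (ac_lt e⁻¹ c)
    rw [h2] at h3
    rw [h3, isOm_ome _ (ac_lt _ _), hCm.2 _ (ac_lt _ _), h2])
  have hqC : q ∈ C := sit.RC hq
  refine ⟨q⁻¹ * e, ⟨C.mul_mem (C.inv_mem hqC) (E_C he), mem_centralizer_singleton_iff.2 ?_⟩, ?_⟩
  · calc q⁻¹ * e * ome = q⁻¹ * (e * ome * e⁻¹) * e := by group
      _ = q⁻¹ * (q * ome * q⁻¹) * e := by rw [h1]
      _ = ome * (q⁻¹ * e) := by group
  · intro c _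
    rw [ac_mul (inv_z (C_z hqC)) hez, ac_R (R.inv_mem hq) (ac_lt _ _)]

theorem H3_om {h : Spor.Fi24} (hh : h ∈ H3) {c : ℕ} (hc : c < 4096) : ac h (om c) = om (ac h c) := by
  have hz := C_z (H3_C hh)
  rw [← isOm_ome c hc, ← ac_mul hz ome_z, H3_ome hh, ac_mul ome_z hz, isOm_ome _ (ac_lt _ _)]

theorem step1 {t : Spor.Fi24} (ht : t ∈ H3) (hn : (cls H3 t).ncard < 3) : ac t 1 = 1 ∨ ac t 1 = 2 ∨ ac t 1 = 3 := by
  have htz := C_z (H3_C ht)
  by_contra hcon
  push Not at hcon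
  have hOM : Om.OM.testBit (ac t 1) = true := ac_OM htz (OM_basis 0 (by norm_num))
  obtain ⟨i, hi, j, hj, h1, h2, h3⟩ := three (ac_lt _ _) hOM hcon.1 hcon.2.1 hcon.2.2
  have key : ∀ i < 5, ∃ h ∈ H3, ac (h * t * h⁻¹) 1 = wa (S1 i) (ac t 1) := by
    intro i hi
    obtain ⟨h, hh, hh'⟩ := lift_H3 (gwd_E (S1 i))
    have hhz := C_z (H3_C hh)
    refine ⟨h, hh, ?_⟩
    have h4 := ac_conj hhz htz (c := 1) (by norm_num)
    rw [hh' _ (by norm_num), hh' _ (ac_lt _ _), ac_gwd _ (by norm_num), ac_gwd _ (ac_lt _ _), S1_fix i hi] at h4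
    exact h4
  obtain ⟨g, hg, hg'⟩ := key i hi
  obtain ⟨k, hk, hk'⟩ := key j hj
  have h4 : ({t, g * t * g⁻¹, k * t * k⁻¹} : Set Spor.Fi24) ⊆ cls H3 t := by
    rintro y (rfl | rfl | rfl)
    · exact ⟨1, H3.one_mem, by group⟩
    · exact ⟨g, hg, rfl⟩
    · exact ⟨k, hk, rfl⟩
  have h5 : ({t, g * t * g⁻¹, k * t * k⁻¹} : Set Spor.Fi24).ncard = 3 := by
    rw [Set.ncard_eq_three]
    refine ⟨_, _, _, ?_, ?_, ?_, rfl⟩
    · intro h; apply h1; rw [← hg', ← h]
    · intro h; apply h2; rw [← hk', ← h]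
    · intro h; apply h3; rw [← hg', ← hk', h]
  have h6 := Set.ncard_le_ncard h4 (Set.toFinite _)
  omega

theorem cls_H3 {t g : Spor.Fi24} (hg : g ∈ H3) : cls H3 (g * t * g⁻¹) = cls H3 t := by
  ext u
  constructor
  · rintro ⟨k, hk, rfl⟩
    exact ⟨k * g, H3.mul_mem hk hg, by group⟩
  · rintro ⟨k, hk, rfl⟩
    exact ⟨k * g⁻¹, H3.mul_mem hk (H3.inv_mem hg), by group⟩

theorem step2 {t : Spor.Fi24} (ht : t ∈ H3) (hn : (cls H3 t).ncard < 3) {r : ℕ} (hr : Om.OM.testBit r = true) :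
    ac t r = r ∨ ac t r = om r ∨ ac t r = om (om r) := by
  obtain ⟨hrlt, e, he, her⟩ := reach (by norm_num) orb1 r hr
  obtain ⟨h, hh, hh'⟩ := lift_H3 he
  have hhz := C_z (H3_C hh)
  have h1r : ac h 1 = r := by rw [hh' 1 (by norm_num), her]
  have hhi := H3.inv_mem hh
  have ht' : h⁻¹ * t * h⁻¹⁻¹ ∈ H3 := H3.mul_mem (H3.mul_mem hhi ht) (H3.inv_mem hhi)
  have htz' := C_z (H3_C ht')
  have h1 := step1 ht' (by rw [cls_H3 hhi]; exact hn)
  have h2 := ac_conj hhz htz' (c := 1) (by norm_num)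
  have e2 : h * (h⁻¹ * t * h⁻¹⁻¹) * h⁻¹ = t := by group
  rw [e2, h1r] at h2
  rw [h2]
  rcases h1 with h1 | h1 | h1
  · left; rw [h1, h1r]
  · right; left
    rw [h1, ← om1.1, H3_om hh (by norm_num), h1r]
  · right; right
    rw [h1, ← om1.2, H3_om hh (om_lt _), H3_om hh (by norm_num), h1r]

theorem om_fix {r : ℕ} (hr : r < 4096) (h : om r = r) : r = 0 := by
  have h1 := om2_eq hr
  rw [h, h, Nat.xor_self] at h1
  exact h1

theorem step3 {t : Spor.Fi24} (ht : t ∈ H3) (hn : (cls H3 t).ncard < 3) {n : ℕ} (htn : t ^ 2 ^ n = 1) {r : ℕ}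
    (hr : Om.OM.testBit r = true) : ac t r = r := by
  have htz := C_z (H3_C ht)
  have hrlt : r < 4096 := RQ.om_lt hr
  have h3 : ac (t ^ 3) r = r := by
    have e : t ^ 3 = t * t * t := by simp only [pow_succ, pow_zero, one_mul]
    rw [e, ac_mul (mul_z htz htz) htz, ac_mul htz htz]
    rcases step2 ht hn hr with h | h | h
    · rw [h, h, h]
    · rw [h, H3_om ht hrlt, h, H3_om ht (om_lt _), H3_om ht hrlt, h, om3 hrlt]
    · rw [h, H3_om ht (om_lt _), H3_om ht hrlt, h, H3_om ht (om_lt _), H3_om ht (om_lt _), H3_om ht (om_lt _),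
        H3_om ht hrlt, h, om3 (om_lt _), om3 hrlt]
  have hco : Nat.Coprime 3 (orderOf t) := by
    refine Nat.Coprime.coprime_dvd_right (orderOf_dvd_of_pow_eq_one htn) ?_
    exact Nat.Coprime.pow_right _ (by norm_num)
  obtain ⟨m, hm⟩ := exists_pow_eq_self_of_coprime hco
  have h3z : t ^ 3 * z = z * t ^ 3 := ((show Commute t z from htz).pow_left 3).eq
  have key : ∀ m : ℕ, ac ((t ^ 3) ^ m) r = r := by
    intro m
    induction m with
    | zero => rw [pow_zero, ac_one hrlt]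
    | succ m ih =>
      rw [pow_succ, ac_mul ((show Commute (t ^ 3) z from h3z).pow_left m).eq h3z, h3, ih]
  rw [← hm]
  exact key m

/-- **at least three conjugates** -/
theorem few {t : Spor.Fi24} (ht : t ∈ H3) {n : ℕ} (htn : t ^ 2 ^ n = 1) (h1 : t ≠ 1) (hz : t ≠ z) :
    3 ≤ (cls H3 t).ncard := by
  by_contra hn
  push Not at hn
  have zz := frame.zz
  have htz := C_z (H3_C ht)
  have hall : ∀ c < 4096, ac t c = c := by
    intro c hc
    exact add_ext' (f := ac t) (g := fun c => c) (ac_xor htz) (fun _ _ => rfl)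
      (fun j hj => step3 ht hn htn (OM_basis j hj)) hc
  have htR : t ∈ R := by
    refine Cfsg.Agent.KFacts.LargeO2.mem_of_triv (Abs.large frame) htz ?_
    intro r hr
    have h1 : Ez z r (cod 12 z x (Lin.pi 12 z x r)) := RQ.sys.ez_pi hr
    have h2 := h1.conj htz
    have h5 := ac_spec htz (Lin.pi 12 z x r)
    rw [hall _ (RQ.sys.dt.pi_lt _)] at h5
    rcases (h2.trans zz h5).trans zz (h1.symm zz) with h6 | h6
    · exact Or.inl h6
    · right
      rw [h6]
      exact (RQ.R_z hr).symm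
  have h2 : Ez z t (cod 12 z x (Lin.pi 12 z x t)) := RQ.sys.ez_pi htR
  have h3 : om (Lin.pi 12 z x t) = Lin.pi 12 z x t := by
    have h4 := (h2.conj ome_z).trans zz (ac_spec ome_z _)
    rw [isOm_ome _ (RQ.sys.dt.pi_lt _)] at h4
    have e : ome * t * ome⁻¹ = t := by rw [← H3_ome ht]; group
    rw [e] at h4
    exact (RQ.sys.pi_of (om_lt _) h4).symm
  have h4 := om_fix (RQ.sys.dt.pi_lt _) h3
  rw [h4, cod_zero] at h2
  rcases h2 with h2 | h2
  · exact h1 h2
  · exact hz (by rw [h2, mul_one])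

theorem bound_few {t : Spor.Fi24} (ht : t ∈ H3) {n : ℕ} (htn : t ^ 2 ^ n = 1) (h1 : t ≠ 1) (hz : t ≠ z) :
    Nat.card ↥(H3 ⊓ centralizer ({t} : Set Spor.Fi24)) ≤ 13063680 := by
  have h2 := card_orb H3 t
  have h3 := few ht htn h1 hz
  have h4 := card_H3
  have h6 : {y | ∃ g ∈ H3, g * t * g⁻¹ = y}.ncard = (cls H3 t).ncard := rfl
  rw [h6] at h2
  by_contra h7
  push Not at h7
  have h8 : 3 * 13063681 ≤ (cls H3 t).ncard * Nat.card ↥(H3 ⊓ centralizer ({t} : Set Spor.Fi24)) :=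
    Nat.mul_le_mul h3 h7
  omega

/-- **the dichotomy in `C(z)`** -/
theorem core {s t : Spor.Fi24} (hs : s ∈ C) (ht : t ∈ C) (hc : s * t = t * s) (h3 : s ^ 3 = 1) (h1 : s ≠ 1) {n : ℕ}
    (htn : t ^ 2 ^ n = 1) (ht1 : t ≠ 1) :
    Nat.card ↥(C ⊓ centralizer ({s} : Set Spor.Fi24) ⊓ centralizer ({t} : Set Spor.Fi24)) ≤ 13063680 ∨
      (t = z ∧ ∃ k ∈ C, k * s * k⁻¹ = ome ∨ k * s * k⁻¹ = ome⁻¹) := by
  have hfin : Finite Spor.Fi24 := finF
  -- from a conjugation
  have key : ∀ k ∈ C, (k * s * k⁻¹ = ome ∨ k * s * k⁻¹ = ome⁻¹) →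
      Nat.card ↥(C ⊓ centralizer ({s} : Set Spor.Fi24) ⊓ centralizer ({t} : Set Spor.Fi24)) ≤ 13063680 ∨
      (t = z ∧ ∃ k ∈ C, k * s * k⁻¹ = ome ∨ k * s * k⁻¹ = ome⁻¹) := by
    intro k hk hks
    have hcom : ∀ g, g * s = s * g → (k * g * k⁻¹) * ome = ome * (k * g * k⁻¹) := by
      intro g hg
      have h5 : (k * g * k⁻¹) * (k * s * k⁻¹) = (k * s * k⁻¹) * (k * g * k⁻¹) := by
        calc (k * g * k⁻¹) * (k * s * k⁻¹) = k * (g * s) * k⁻¹ := by group
          _ = (k * s * k⁻¹) * (k * g * k⁻¹) := by rw [hg]; group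
      rcases hks with h | h
      · rw [h] at h5; exact h5
      · rw [h] at h5
        have h6 : Commute (k * g * k⁻¹) ome⁻¹ := h5
        exact (Commute.inv_right_iff.1 h6).eq
    by_cases htz : k * t * k⁻¹ = z
    · right
      refine ⟨?_, k, hk, hks⟩
      have hkz := C_z hk
      calc t = k⁻¹ * (k * t * k⁻¹) * k := by group
        _ = k⁻¹ * (z * k) := by rw [htz]; group
        _ = z := by rw [← hkz]; group
    · left
      have hkt : k * t * k⁻¹ ∈ H3 := ⟨C.mul_mem (C.mul_mem hk ht) (C.inv_mem hk),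
        mem_centralizer_singleton_iff.2 (hcom t hc.symm)⟩
      have h5 := bound_few hkt (n := n) (by rw [conj_pow, htn]; group) (fun h => ht1 (conj_eq_one_iff.1 h)) htz
      refine le_trans ?_ h5
      refine Nat.card_le_card_of_injective (fun g : ↥(C ⊓ centralizer ({s} : Set Spor.Fi24) ⊓ centralizer ({t} : Set Spor.Fi24)) =>
        (⟨k * (g : Spor.Fi24) * k⁻¹, ⟨C.mul_mem (C.mul_mem hk g.2.1.1) (C.inv_mem hk), ?_⟩, ?_⟩ :
          ↥(H3 ⊓ centralizer ({k * t * k⁻¹} : Set Spor.Fi24)))) ?_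
      · exact mem_centralizer_singleton_iff.2 (hcom _ (mem_centralizer_singleton_iff.1 g.2.1.2))
      · refine mem_centralizer_singleton_iff.2 ?_
        have h6 := mem_centralizer_singleton_iff.1 g.2.2
        calc k * (g : Spor.Fi24) * k⁻¹ * (k * t * k⁻¹) = k * ((g : Spor.Fi24) * t) * k⁻¹ := by group
          _ = k * t * k⁻¹ * (k * (g : Spor.Fi24) * k⁻¹) := by rw [h6]; group
      · intro g g' h
        have h6 : k * (g : Spor.Fi24) * k⁻¹ = k * (g' : Spor.Fi24) * k⁻¹ := congrArg Subtype.val h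
        exact Subtype.ext (mul_left_cancel (mul_right_cancel h6))
  rcases many hs h3 h1 with h5 | ⟨g, hg, h5 | h5⟩
  · left
    have h4 := card_orb C s
    rw [card_C] at h4
    have h6 : {y | ∃ g ∈ C, g * s * g⁻¹ = y}.ncard = (cls C s).ncard := rfl
    rw [h6] at h4
    have h9 : Nat.card ↥(C ⊓ centralizer ({s} : Set Spor.Fi24)) ≤ 10077696 := by
      by_contra h7
      push Not at h7
      have h8 : 15929 * 10077697 ≤ (cls C s).ncard * Nat.card ↥(C ⊓ centralizer ({s} : Set Spor.Fi24)) :=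
        Nat.mul_le_mul h5 h7
      omega
    have h10 := Subgroup.card_le_of_le (H := C ⊓ centralizer ({s} : Set Spor.Fi24) ⊓ centralizer ({t} : Set Spor.Fi24))
      (K := C ⊓ centralizer ({s} : Set Spor.Fi24)) inf_le_left
    omega
  · obtain ⟨q, hq, hqs⟩ := conj_R (C.mul_mem (C.mul_mem hg hs) (C.inv_mem hg)) (by rw [conj_pow, h3]; group) h5
    refine key (q⁻¹ * g) (C.mul_mem (C.inv_mem (sit.RC hq)) hg) (Or.inl ?_)
    calc q⁻¹ * g * s * (q⁻¹ * g)⁻¹ = q⁻¹ * (g * s * g⁻¹) * q := by group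
      _ = ome := by rw [← hqs]; group
  · obtain ⟨q, hq, hqs⟩ := conj_R (C.mul_mem (C.mul_mem hg (C.inv_mem hs)) (C.inv_mem hg))
      (by rw [conj_pow, inv_pow, h3]; group) h5
    refine key (q⁻¹ * g) (C.mul_mem (C.inv_mem (sit.RC hq)) hg) (Or.inr ?_)
    calc q⁻¹ * g * s * (q⁻¹ * g)⁻¹ = (q⁻¹ * (g * s⁻¹ * g⁻¹) * q)⁻¹ := by group
      _ = ome⁻¹ := by rw [← hqs]; group

end Cfsg.Agent.H29.TF
end

-- part: H29/TF/Into
section
/-!
# `3.Fi24'`: the elements `s t`, `s` of order 3, `t` a commuting 2-element (helper29, for S2491, S2492)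

* `into` : `s` not of class `3A`, `t ≠ 1`: `|C(s t)| ≤ 13063680` or `s t` is conjugate into `N(AA) = 2^11 . M24`;
* `good3` : all lifts of `s t` are commutators.
-/

set_option autoImplicit false
set_option maxRecDepth 100000

namespace Cfsg.Agent.H29.TF

open Cfsg Subgroup
open Cfsg.Agent.H611.QF (Cls)
open Cfsg.Agent.H98.Ex2.FiTwoB (C mem_C exists_conj)
open Cfsg.Agent.KFacts.FiTF.Defs (z)
open Cfsg.Agent.Fischer.Fi24RepDef Cfsg.Agent.Fischer.Fi24Rep
open Cfsg.Agent.Lib.PermNetPt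
open Cfsg.Agent.H827.CocoD (d conj_d)
open Cfsg.Agent.H827.Coco (AA mem_normalizer_of)
open Cfsg.Agent.Schreier.FiBasic (lab chkP rho_of_chkP)
open Cfsg.Agent.SporadicA.GolayBase

/-! ### `ω` and `z` normalise `AA` -/

/-- `ω` on the 24 labels -/
def prO (n : ℕ) : ℕ := ([0, 2, 3, 1, 5, 6, 4, 7, 21, 9, 10, 18, 12, 17, 19, 11, 13, 16, 15, 20, 14, 22, 8, 23] : List ℕ).getD n 0

def labI (n : ℕ) : ℕ := ([23, 0, 1, 2, 3, 5, 17, 14, 4, 11, 19, 20, 10, 6, 8, 9, 21, 7, 15, 18, 12, 22, 16, 13] : List ℕ).getD n 0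

def fO (p : GolayPt) : GolayPt := pt (labI (prO (lab p)))

def tO : Equiv.Perm GolayPt where
  toFun := fO
  invFun p := fO (fO p)
  left_inv := by decide +kernel
  right_inv := by decide +kernel

theorem lab_tO (p : GolayPt) : lab (tO p) = prO (lab p) := by
  revert p
  decide +kernel

theorem lab_lt' (p : GolayPt) : lab p < 24 := by
  revert p
  decide +kernel

def rowsO : List (ℕ × ℕ) := (List.range 24).map fun n => (n, prO n)

def rowsI : List (ℕ × ℕ) := (List.range 24).map fun n => (n, n)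

set_option Elab.async false in
theorem chk_rowsO : chkP (nw wo false) rowsO = true := by (rewrite [show @Cfsg.Agent.Schreier.FiBasic.chkP = delta% @Cfsg.Agent.Schreier.FiBasic.chkP from by delta Cfsg.Agent.Schreier.FiBasic.chkP; rfl, show @Cfsg.Agent.Lib.PermNetPt.chkPt = delta% @Cfsg.Agent.Lib.PermNetPt.chkPt from by delta Cfsg.Agent.Lib.PermNetPt.chkPt; rfl, Cfsg.Agent.Lib.PermNetFast.winv_fast]; decide +kernel)

theorem chk_rowsI : chkP (nw Cfsg.Agent.KFacts.FiTF.Tet.wz false) rowsI = true := by decide +kernel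

theorem rho_ome' : ∀ a ∈ rowsO, rho (word wo) a.1 = a.2 := rho_of_chkP chk_rowsO

theorem ome_word : ome = word wo := rfl

theorem mem_rowsO {n : ℕ} (hn : n < 24) : (n, prO n) ∈ rowsO := List.mem_map.2 ⟨n, List.mem_range.2 hn, rfl⟩

theorem rho_wo {n : ℕ} (hn : n < 24) : rho (word wo) n = prO n := by
  have h := rho_ome' (n, prO n) (mem_rowsO hn)
  dsimp only at h
  exact h

theorem rho_ome (p : GolayPt) : rho ome (lab p) = lab (tO p) := by
  rw [ome_word, lab_tO]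
  exact rho_wo (lab_lt' p)

theorem rho_z' (p : GolayPt) : rho z (lab p) = lab ((1 : Equiv.Perm GolayPt) p) := by
  have h := rho_of_chkP (u := Cfsg.Agent.KFacts.FiTF.Tet.wz) chk_rowsI (lab p, lab p)
    (List.mem_map.2 ⟨lab p, List.mem_range.2 (lab_lt' p), rfl⟩)
  rw [Cfsg.Agent.KFacts.FiTF.Tet.word_wz] at h
  dsimp only at h
  exact h

/-- `ω` in `Fi24'` -/
noncomputable def oK : Spor.Fi24' := ⟨ome, (mem_C.1 ome_mem).1⟩

/-- `z` in `Fi24'` -/
noncomputable def zK : Spor.Fi24' := ⟨z, (mem_C.1 (Cfsg.Agent.H98.Ex2.FiTwoB.sit.RC Cfsg.Agent.H98.Ex2.FiTwoB.sit.zR)).1⟩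

theorem oK_mem : oK ∈ normalizer (AA : Set Spor.Fi24') := mem_normalizer_of (m := tO) fun p => conj_d (rho_ome p)

theorem zK_mem : zK ∈ normalizer (AA : Set Spor.Fi24') := mem_normalizer_of (m := 1) fun p => conj_d (rho_z' p)

/-! ### The parts of `s t` -/

theorem comm_parts {G : Type*} [Group G] {s t g : G} {n : ℕ} (hs : orderOf s = 3) (ht : t ^ 2 ^ n = 1)
    (hst : Commute s t) (hg : Commute g (s * t)) : Commute g s ∧ Commute g t := by
  have hco : Nat.Coprime (2 ^ n) (orderOf s) := by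
    rw [hs]
    exact Nat.Coprime.pow_left _ (by norm_num)
  obtain ⟨m, hm⟩ := exists_pow_eq_self_of_coprime hco
  have h1 : Commute g (s ^ 2 ^ n) := by
    have h2 := hg.pow_right (2 ^ n)
    rwa [hst.mul_pow, ht, mul_one] at h2
  have h2 : Commute g s := by
    have h3 := h1.pow_right m
    rwa [hm] at h3
  refine ⟨h2, ?_⟩
  have h3 := h2.inv_right.mul_right hg
  rwa [inv_mul_cancel_left] at h3

/-- **the dichotomy** -/
theorem into {s t : Spor.Fi24'} {n : ℕ} (hs : orderOf s = 3) (h0 : ¬ Cls 0 s) (ht : t ^ 2 ^ n = 1) (ht1 : t ≠ 1)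
    (hst : Commute s t) : Nat.card ↥(centralizer ({s * t} : Set Spor.Fi24')) ≤ 13063680 ∨
      ∃ g : Spor.Fi24', g * (s * t) * g⁻¹ ∈ normalizer (AA : Set Spor.Fi24') := by
  have hfin : Finite Spor.Fi24 := Cfsg.Agent.R08.FiTwentyFour.finite_Fi24
  -- the involution
  obtain ⟨m, -, hm⟩ := (Nat.dvd_prime_pow Nat.prime_two).1 (orderOf_dvd_of_pow_eq_one ht)
  have hm0 : m ≠ 0 := by
    rintro rfl
    rw [pow_zero, orderOf_eq_one_iff] at hm
    exact ht1 hm
  obtain ⟨m, rfl⟩ : ∃ k, m = k + 1 := ⟨m - 1, by omega⟩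
  set v := t ^ 2 ^ m with hv
  have hv2 : v * v = 1 := by
    rw [hv, ← pow_add, ← two_mul, ← pow_succ', ← hm, pow_orderOf_eq_one]
  have hv1 : v ≠ 1 := by
    intro h
    have h1 := orderOf_dvd_of_pow_eq_one h
    rw [hm] at h1
    have h2 := Nat.le_of_dvd (by positivity) h1
    rw [pow_succ] at h2
    have := Nat.two_pow_pos m
    omega
  have hsv : Commute s v := hst.pow_right _
  have hcv : ∀ g : Spor.Fi24', g * (s * t) = s * t * g → Commute g s ∧ Commute g t ∧ Commute g v := by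
    intro g hg
    obtain ⟨h1, h2⟩ := comm_parts hs ht hst hg
    exact ⟨h1, h2, h2.pow_right _⟩
  rcases Cfsg.Agent.R08.TetFi24C.facts.invol (v : Spor.Fi24) v.2 (congrArg Subtype.val hv2)
    (fun h => hv1 (Subtype.ext h)) with ⟨a, ha, b, hb, hab, hc, he⟩ | ⟨a, b, c, e, hT⟩
  · left
    have h1 := two_a ha hb hab hc he hs hsv.symm h0
    refine le_trans (Subgroup.card_le_of_le (K := centralizer ({v} : Set Spor.Fi24') ⊓ centralizer ({s} : Set Spor.Fi24'))
      ?_) (h1.trans (by norm_num))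
    intro g hg
    obtain ⟨h2, -, h3⟩ := hcv g (mem_centralizer_singleton_iff.1 hg)
    exact ⟨mem_centralizer_singleton_iff.2 h3.eq, mem_centralizer_singleton_iff.2 h2.eq⟩
  · obtain ⟨g, hg, hgt, -⟩ := exists_conj hT
    have hN : ∀ k : Spor.Fi24', g * (k : Spor.Fi24) * g⁻¹ ∈ commutator Spor.Fi24 := fun k =>
      Subgroup.mul_mem _ (Subgroup.mul_mem _ hg k.2) (Subgroup.inv_mem _ hg)
    have hcz : ∀ k : Spor.Fi24', Commute k v → g * (k : Spor.Fi24) * g⁻¹ ∈ C := by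
      intro k hk
      refine mem_C.2 ⟨hN k, ?_⟩
      have hk' : (k : Spor.Fi24) * v = v * k := congrArg Subtype.val hk.eq
      rw [← hgt]
      calc g * (k : Spor.Fi24) * g⁻¹ * (g * v * g⁻¹) = g * ((k : Spor.Fi24) * v) * g⁻¹ := by group
        _ = g * v * g⁻¹ * (g * (k : Spor.Fi24) * g⁻¹) := by rw [hk']; group
    have hcc : ∀ k l : Spor.Fi24', Commute k l →
        (g * (k : Spor.Fi24) * g⁻¹) * (g * (l : Spor.Fi24) * g⁻¹) = (g * (l : Spor.Fi24) * g⁻¹) * (g * (k : Spor.Fi24) * g⁻¹) := by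
      intro k l hkl
      have hk' : (k : Spor.Fi24) * l = l * k := congrArg Subtype.val hkl.eq
      calc (g * (k : Spor.Fi24) * g⁻¹) * (g * (l : Spor.Fi24) * g⁻¹) = g * ((k : Spor.Fi24) * l) * g⁻¹ := by group
        _ = _ := by rw [hk']; group
    have hs3 : (s : Spor.Fi24) ^ 3 = 1 := by
      have h1 : s ^ 3 = 1 := by rw [← hs, pow_orderOf_eq_one]
      exact congrArg Subtype.val h1
    have hs1 : (s : Spor.Fi24) ≠ 1 := by
      intro h
      have h1 : s = 1 := Subtype.ext h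
      rw [h1, orderOf_one] at hs
      omega
    have ht3 : (t : Spor.Fi24) ^ 2 ^ n = 1 := congrArg Subtype.val ht
    have ht1' : (t : Spor.Fi24) ≠ 1 := fun h => ht1 (Subtype.ext h)
    have htv : Commute t v := (Commute.refl t).pow_right _
    rcases core (hcz s hsv) (hcz t htv) (hcc s t hst) (by rw [conj_pow, hs3]; group)
      (fun h => hs1 (conj_eq_one_iff.1 h)) (n := n) (by rw [conj_pow, ht3]; group)
      (fun h => ht1' (conj_eq_one_iff.1 h)) with h1 | ⟨hTz, k, hk, h1⟩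
    · left
      refine le_trans ?_ h1
      refine Nat.card_le_card_of_injective (fun k : ↥(centralizer ({s * t} : Set Spor.Fi24')) =>
        (⟨g * ((k : Spor.Fi24') : Spor.Fi24) * g⁻¹, ⟨hcz _ (hcv _ (mem_centralizer_singleton_iff.1 k.2)).2.2, ?_⟩, ?_⟩ :
          ↥(C ⊓ centralizer ({g * (s : Spor.Fi24) * g⁻¹} : Set Spor.Fi24) ⊓
            centralizer ({g * (t : Spor.Fi24) * g⁻¹} : Set Spor.Fi24)))) ?_
      · exact mem_centralizer_singleton_iff.2 (hcc _ _ (hcv _ (mem_centralizer_singleton_iff.1 k.2)).1)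
      · exact mem_centralizer_singleton_iff.2 (hcc _ _ (hcv _ (mem_centralizer_singleton_iff.1 k.2)).2.1)
      · intro k k' h
        have h2 : g * ((k : Spor.Fi24') : Spor.Fi24) * g⁻¹ = g * ((k' : Spor.Fi24') : Spor.Fi24) * g⁻¹ := congrArg Subtype.val h
        exact Subtype.ext (Subtype.ext (mul_left_cancel (mul_right_cancel h2)))
    · right
      have hkz := C_z hk
      have hkm := (mem_C.1 hk).1
      refine ⟨⟨k * g, Subgroup.mul_mem _ hkm hg⟩, ?_⟩
      have h2 : k * z * k⁻¹ = z := by rw [hkz]; group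
      have h3 : k * g * ((s : Spor.Fi24) * t) * (k * g)⁻¹ = (k * (g * (s : Spor.Fi24) * g⁻¹) * k⁻¹) * z := by
        calc k * g * ((s : Spor.Fi24) * t) * (k * g)⁻¹
            = (k * (g * (s : Spor.Fi24) * g⁻¹) * k⁻¹) * (k * (g * (t : Spor.Fi24) * g⁻¹) * k⁻¹) := by group
          _ = _ := by rw [hTz, h2]
      rcases h1 with h1 | h1
      · have h4 : (⟨k * g, Subgroup.mul_mem _ hkm hg⟩ : Spor.Fi24') * (s * t) *
            (⟨k * g, Subgroup.mul_mem _ hkm hg⟩ : Spor.Fi24')⁻¹ = oK * zK := Subtype.ext (by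
          show k * g * ((s : Spor.Fi24) * t) * (k * g)⁻¹ = ome * z
          rw [h3, h1])
        rw [h4]
        exact Subgroup.mul_mem _ oK_mem zK_mem
      · have h4 : (⟨k * g, Subgroup.mul_mem _ hkm hg⟩ : Spor.Fi24') * (s * t) *
            (⟨k * g, Subgroup.mul_mem _ hkm hg⟩ : Spor.Fi24')⁻¹ = oK⁻¹ * zK := Subtype.ext (by
          show k * g * ((s : Spor.Fi24) * t) * (k * g)⁻¹ = ome⁻¹ * z
          rw [h3, h1])
        rw [h4]
        exact Subgroup.mul_mem _ (Subgroup.inv_mem _ oK_mem) zK_mem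

open Cfsg.Agent.H51.Mult Cfsg.Agent.H777.Ore Cfsg.Agent.H265.TF Cfsg.Agent.H52.ThreeFi24 in
/-- **all lifts of `s t` are commutators** -/
theorem good3 {s t : Spor.Fi24'} {n : ℕ} (hs : orderOf s = 3) (ht : t ^ 2 ^ n = 1) (hst : Commute s t) :
    Good π3 (s * t) := by
  by_cases h0 : Cls 0 s
  · exact Cfsg.Agent.H611.QF.good_zero h0 ht hst
  have hs3 : s ^ 3 = 1 := by rw [← hs, pow_orderOf_eq_one]
  by_cases ht1 : t = 1
  · rw [ht1, mul_one]
    exact six hs3
  rcases into hs h0 ht ht1 hst with h | ⟨g, hg⟩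
  · exact Cfsg.Agent.H611.QF.good_of_cent' pce.surj pce.cen card_ker_L3 Cfsg.Agent.H611.QF.degK
      Cfsg.Agent.H610.TF.degL (h.trans (by norm_num))
  · exact good_into hs3 ht hst hg

end Cfsg.Agent.H29.TF
end

-- part: H611/QF/RowFin
section
/-!
# The row `Fi24'` of S2491, S2492 (helper611)

* `good_all` : every lift of every element of `Fi24'` to the cover is a commutator;
* `rowFi` : the row; `row_fi24` : the row for every group isomorphic to `Fi24'`.
-/

set_option autoImplicit false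

namespace Cfsg.Agent.H611.QF

open Cfsg Subgroup Cfsg.Agent.H51.Mult Cfsg.Agent.H777.Ore Cfsg.Agent.H265.TF Cfsg.Agent.H52.ThreeFi24

universe u

theorem hOne (s t : Spor.Fi24') (n : ℕ) (hs : orderOf s = 3) (_ : Cls 1 s) (ht : t ^ 2 ^ n = 1) (hst : Commute s t) :
    Good π3 (s * t) := Cfsg.Agent.H29.TF.good3 hs ht hst

/-- **the row `Fi24'`, for every group isomorphic to `Fi24'`** -/
theorem row_fi24 {K : Type u} [Group K] (h : Spor.IsoFi24' K) : H6.QO.RowA K := rowC_iso hOne h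

end Cfsg.Agent.H611.QF
end

private theorem dce_823a13557a7d : _root_.True := by
  try have : _root_.True := by simp only [_root_.Cfsg.Agent.H597.R7.OrbK.GW.eq_1]
  exact _root_.True.intro
end
end
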